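import Mathlib
import Cfsg.Agent.Lib.F24T.Model
import Cfsg.Agent.Lib.LargeExtra.Setting

/-!
# Frames: the centraliser `2^{1+12}.3U₄(3).2` in coordinates

`σ` is the canonical section of `Q → Q/⟨z⟩ = 𝔽₄⁶` defined by the element `x` of order 3, `ρ` is the action of
`C(z)` on `𝔽₄⁶`.  `F.Lift c g`: `c ∈ C(z)` acts as `g`.
-/

set_option autoImplicit false

namespace H12.F24

open Subgroup H94 H95
open H30 (F4)

variable {G : Type*} [Group G]

/-- the centraliser of `z` in coordinates, before the outer part is determined -/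
structure PreFrame (z : G) where
  σ : V6 → G
  ρ : centralizer ({z} : Set G) →* AV
  x : G
  z1 : z ≠ 1
  zz : z * z = 1
  σ_mul : ∀ v w, σ v * σ w = σ (v + w) * zp z (βv v w)
  σ_z : ∀ v, σ v * z = z * σ v
  σ_eq : ∀ v, σ v = 1 ∨ σ v = z → v = 0
  conj : ∀ (c : centralizer ({z} : Set G)) v, ∃ ε, c * σ v * (c : G)⁻¹ = σ (ρ c v) * zp z ε
  ker : ∀ c, ρ c = 1 → ∃ v ε, (c : G) = σ v * zp z ε
  x_z : x * z = z * x
  x_cube : x * x * x = 1
  x_conj : ∀ v, x * σ v * x⁻¹ = σ (F4.w • v)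
  K_le : K0 ≤ ρ.range
  le_N : ρ.range ≤ N1
  card_range : Nat.card ρ.range = 19595520

/-- the centraliser of `z` in coordinates in a group of large Fischer type -/
structure Frame (z : G) extends PreFrame z where
  range : ρ.range = H0
  /-- the conjugates of `z` in `Q - {z}` lie over the 1701 singular vectors outside `S378` -/
  cls : ∀ v, v ≠ 0 → qv v = 0 → (IsConj z (σ v) ↔ v ∉ S378)

theorem zmod2_add_eq {a b c : ZMod 2} (h : a + b = c) : a = c + b := by revert a b c; decide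

theorem qv_smul (c : F4) (hc : c ≠ 0) (v : V6) : qv (c • v) = qv v := by
  rw [qv_eq_sum, qv_eq_sum]
  exact Finset.sum_congr rfl fun i _ => by simp [hc]

theorem βv_self_w (v : V6) : βv v (F4.w • v) = qv v := by
  have h : ∀ a : F4, re (a * H11.U.cj 2 (F4.w * a)) = if a = 0 then 0 else 1 := by decide
  rw [qv_eq_sum, βv, hf, H11.U.form_def]
  simp only [Fin.sum_univ_six, re_add, Pi.smul_apply, smul_eq_mul, h]

theorem βv_self_v (v : V6) : βv v (F4.v • v) = 0 := by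
  have h : ∀ a : F4, re (a * H11.U.cj 2 (F4.v * a)) = 0 := by decide
  rw [βv, hf, H11.U.form_def]
  simp only [Fin.sum_univ_six, re_add, Pi.smul_apply, smul_eq_mul, h, add_zero]

theorem add_w_smul (v : V6) : v + F4.w • v = F4.v • v := by
  rw [show F4.v = 1 + F4.w from rfl, add_smul, one_smul]

theorem add_v_smul (v : V6) : v + F4.v • v = F4.w • v := by
  rw [show F4.w = 1 + F4.v from rfl, add_smul, one_smul]

theorem w_w_smul (v : V6) : F4.w • F4.w • v = F4.v • v := by rw [smul_smul]; rfl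
theorem w_v_smul (v : V6) : F4.w • F4.v • v = v := by rw [smul_smul]; exact one_smul _ _
theorem v_w_smul (v : V6) : F4.v • F4.w • v = v := by rw [smul_smul]; exact one_smul _ _
theorem v_v_smul (v : V6) : F4.v • F4.v • v = F4.w • v := by rw [smul_smul]; rfl

namespace PreFrame

variable {z : G} (F : PreFrame z)

include F in
theorem zp_add' (a b : ZMod 2) : zp z a * zp z b = zp z (a + b) := (zp_add F.zz a b).symm

include F in
theorem zp_self (a : ZMod 2) : zp z a * zp z a = 1 := by rw [F.zp_add', zmod2_add_self, zp_zero]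

include F in
theorem zp_inv (a : ZMod 2) : (zp z a)⁻¹ = zp z a := inv_eq_of_mul_eq_one_right (F.zp_self a)

include F in
theorem orderOf_z : orderOf z = 2 := orderOf_eq_two_of F.zz F.z1

theorem σ_zp (v : V6) (a : ZMod 2) : zp z a * F.σ v = F.σ v * zp z a := (zp_comm (F.σ_z v) a).symm

theorem σ_zero : F.σ 0 = 1 := by
  have := F.σ_mul 0 0
  rwa [add_zero, βv_zero_left, zp_zero, mul_one, mul_eq_left] at this

theorem σ_sq (v : V6) : F.σ v * F.σ v = zp z (qv v) := by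
  rw [F.σ_mul, V6_add_self, F.σ_zero, one_mul]; rfl

theorem σ_inv (v : V6) : (F.σ v)⁻¹ = F.σ v * zp z (qv v) :=
  inv_eq_of_mul_eq_one_right (by rw [← mul_assoc, F.σ_sq, F.zp_self])

/-- the product of two elements of `Q` -/
theorem elt_mul (v w : V6) (a b : ZMod 2) :
    F.σ v * zp z a * (F.σ w * zp z b) = F.σ (v + w) * zp z (βv v w + a + b) := by
  rw [mul_assoc, ← mul_assoc (zp z a), F.σ_zp, ← mul_assoc, ← mul_assoc, F.σ_mul, mul_assoc, mul_assoc,
    F.zp_add', F.zp_add', add_assoc]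

theorem elt_inv (v : V6) (a : ZMod 2) : (F.σ v * zp z a)⁻¹ = F.σ v * zp z (qv v + a) := by
  rw [mul_inv_rev, F.zp_inv, F.σ_inv, ← mul_assoc, F.σ_zp, mul_assoc, F.zp_add', add_comm]

theorem elt_inj {v w : V6} {a b : ZMod 2} (h : F.σ v * zp z a = F.σ w * zp z b) : v = w ∧ a = b := by
  have h1 : F.σ (v + w) * zp z (βv v w + a + (qv w + b)) = 1 := by
    rw [← F.elt_mul, ← F.elt_inv, h, mul_inv_cancel]
  have h2 : v + w = 0 := F.σ_eq _ (by
    rw [mul_eq_one_iff_eq_inv, F.zp_inv] at h1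
    rw [h1]; exact zp_cases z _)
  have h3 : v = w := by rw [← add_zero v, ← V6_add_self w, ← add_assoc, h2, zero_add]
  subst h3
  exact ⟨rfl, zp_inj F.z1 (mul_left_cancel h)⟩

theorem σ_inj : Function.Injective F.σ := fun v w h =>
  (F.elt_inj (a := 0) (b := 0) (by rw [h])).1

theorem σ_comm (v w : V6) : F.σ v * F.σ w = F.σ w * F.σ v * zp z (Bv v w) := by
  rw [F.σ_mul, F.σ_mul, mul_assoc, F.zp_add', add_comm w, ← βv_add_swap, add_comm (βv v w), ← add_assoc,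
    zmod2_add_self, zero_add]

theorem σ_commute_iff (v w : V6) : F.σ v * F.σ w = F.σ w * F.σ v ↔ Bv v w = 0 := by
  rw [F.σ_comm v w, mul_eq_left, zp_eq_one_iff F.z1]

theorem σ_conj (u w : V6) : F.σ u * F.σ w * (F.σ u)⁻¹ = F.σ w * zp z (Bv u w) := by
  rw [F.σ_comm u w, mul_assoc, mul_assoc, ← mul_assoc (F.σ u), ← F.σ_zp, mul_assoc, mul_inv_cancel, mul_one]

theorem σ_triple (v : V6) : F.σ v * F.σ (F4.w • v) * F.σ (F4.v • v) = 1 := by
  rw [F.σ_mul, add_w_smul, βv_self_w, mul_assoc, F.σ_zp, ← mul_assoc, F.σ_sq, qv_smul _ (by decide), F.zp_self]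

theorem σ_triple' (v : V6) : F.σ v * F.σ (F4.v • v) * F.σ (F4.w • v) = zp z (qv v) := by
  rw [F.σ_mul, add_v_smul, βv_self_v, zp_zero, mul_one, F.σ_sq, qv_smul _ (by decide)]

theorem x_conj' (v : V6) : F.x⁻¹ * F.σ v * F.x = F.σ (F4.v • v) := by
  rw [← w_v_smul v, ← F.x_conj, w_v_smul]; group

/-- the extraspecial group -/
def Q : Subgroup G where
  carrier := {g | ∃ v ε, g = F.σ v * zp z ε}
  one_mem' := ⟨0, 0, by rw [F.σ_zero, zp_zero, mul_one]⟩
  mul_mem' := by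
    rintro _ _ ⟨v, a, rfl⟩ ⟨w, b, rfl⟩
    exact ⟨_, _, F.elt_mul v w a b⟩
  inv_mem' := by
    rintro _ ⟨v, a, rfl⟩
    exact ⟨_, _, F.elt_inv v a⟩

theorem mem_Q {g : G} : g ∈ F.Q ↔ ∃ v ε, g = F.σ v * zp z ε := Iff.rfl
theorem elt_mem (v : V6) (a : ZMod 2) : F.σ v * zp z a ∈ F.Q := ⟨v, a, rfl⟩
theorem σ_mem (v : V6) : F.σ v ∈ F.Q := ⟨v, 0, by rw [zp_zero, mul_one]⟩
theorem zp_mem (a : ZMod 2) : zp z a ∈ F.Q := ⟨0, a, by rw [F.σ_zero, one_mul]⟩
theorem z_mem : z ∈ F.Q := by simpa only [zp_one] using F.zp_mem 1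

theorem card_Q : Nat.card F.Q = 2 ^ 13 := by
  have e : V6 × ZMod 2 ≃ F.Q := Equiv.ofBijective (fun p => ⟨F.σ p.1 * zp z p.2, F.elt_mem _ _⟩)
    ⟨fun p q h => Prod.ext (F.elt_inj (congrArg Subtype.val h)).1 (F.elt_inj (congrArg Subtype.val h)).2,
      fun ⟨_, v, a, h⟩ => ⟨(v, a), Subtype.ext h.symm⟩⟩
  rw [← Nat.card_congr e, Nat.card_prod, Nat.card_zmod, Nat.card_fun, Nat.card_eq_fintype_card (α := F4)]
  simp [show Fintype.card F4 = 4 from rfl]

theorem elt_z (v : V6) (a : ZMod 2) : F.σ v * zp z a * z = z * (F.σ v * zp z a) := by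
  rw [mul_assoc, ← zp_comm rfl, ← mul_assoc, F.σ_z, mul_assoc]

theorem Q_z {g : G} (h : g ∈ F.Q) : g * z = z * g := by
  obtain ⟨v, a, rfl⟩ := h; exact F.elt_z v a

/-- `c` centralises `z` and acts as `g` -/
def Lift (c : G) (g : AV) : Prop := ∃ h : c ∈ centralizer ({z} : Set G), F.ρ ⟨c, h⟩ = g

variable {F}

theorem Lift.comm {c : G} {g : AV} (h : F.Lift c g) : c * z = z * c := mem_cent_iff.1 h.1
theorem Lift.zp_comm {c : G} {g : AV} (h : F.Lift c g) (a : ZMod 2) : c * zp z a = zp z a * c :=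
  H95.zp_comm h.comm a
theorem Lift.mul {c d : G} {g k : AV} (h : F.Lift c g) (h' : F.Lift d k) : F.Lift (c * d) (g * k) :=
  ⟨mul_mem h.1 h'.1, by rw [← h.2, ← h'.2, ← map_mul]; rfl⟩
theorem Lift.inv {c : G} {g : AV} (h : F.Lift c g) : F.Lift c⁻¹ g⁻¹ :=
  ⟨inv_mem h.1, by rw [← h.2, ← map_inv]; rfl⟩
theorem Lift.unique {c : G} {g k : AV} (h : F.Lift c g) (h' : F.Lift c k) : g = k := h.2.symm.trans h'.2
theorem Lift.mem_range {c : G} {g : AV} (h : F.Lift c g) : g ∈ F.ρ.range := ⟨_, h.2⟩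
theorem Lift.mem_N1 {c : G} {g : AV} (h : F.Lift c g) : g ∈ N1 := F.le_N h.mem_range
theorem Lift.conj {c : G} {g : AV} (h : F.Lift c g) (v : V6) :
    ∃ ε, c * F.σ v * c⁻¹ = F.σ (g v) * zp z ε := h.2 ▸ F.conj ⟨c, h.1⟩ v
theorem Lift.conj_zp {c : G} {g : AV} (h : F.Lift c g) (a : ZMod 2) : c * zp z a * c⁻¹ = zp z a := by
  rw [h.zp_comm, mul_inv_cancel_right]
theorem Lift.conj_mul_zp {c : G} {g : AV} (h : F.Lift c g) (y : G) (a : ZMod 2) :
    c * (y * zp z a) * c⁻¹ = c * y * c⁻¹ * zp z a := by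
  rw [mul_assoc (c * y), h.inv.zp_comm]; simp only [mul_assoc]
theorem Lift.conj_elt {c : G} {g : AV} (h : F.Lift c g) (v : V6) (a : ZMod 2) :
    ∃ ε, c * (F.σ v * zp z a) * c⁻¹ = F.σ (g v) * zp z ε := by
  obtain ⟨ε, e⟩ := h.conj v
  exact ⟨ε + a, by rw [h.conj_mul_zp, e, mul_assoc, F.zp_add']⟩
theorem Lift.mem_Q {c : G} (h : F.Lift c 1) : c ∈ F.Q := F.ker ⟨c, h.1⟩ h.2

variable (F)

theorem exists_lift {c : G} (h : c * z = z * c) : ∃ g, F.Lift c g := ⟨_, mem_cent_iff.2 h, rfl⟩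

theorem lift_of_mem {g : AV} (h : g ∈ F.ρ.range) : ∃ c, F.Lift c g := by
  obtain ⟨c, rfl⟩ := h; exact ⟨c, c.2, rfl⟩

theorem lift_of_conj {c : G} {g : AV} (hc : c * z = z * c)
    (h : ∀ v, ∃ ε, c * F.σ v * c⁻¹ = F.σ (g v) * zp z ε) : F.Lift c g := by
  obtain ⟨k, hk⟩ := F.exists_lift hc
  have : k = g := LinearEquiv.ext fun v => by
    obtain ⟨a, e⟩ := hk.conj v
    obtain ⟨b, e'⟩ := h v
    exact (F.elt_inj (e.symm.trans e')).1
  exact this ▸ hk

theorem lift_one_of_mem {c : G} (h : c ∈ F.Q) : F.Lift c 1 := by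
  refine F.lift_of_conj (F.Q_z h) fun w => ?_
  obtain ⟨v, a, rfl⟩ := h
  refine ⟨Bv v w, ?_⟩
  rw [mul_inv_rev, F.zp_inv, mul_assoc (F.σ v), F.σ_zp, AV.one_apply, ← F.σ_conj]
  simp only [mul_assoc]
  rw [← mul_assoc (zp z a), F.zp_self, one_mul]

theorem lift_one_iff {c : G} : F.Lift c 1 ↔ c ∈ F.Q := ⟨Lift.mem_Q, F.lift_one_of_mem⟩
theorem lift_one : F.Lift 1 1 := F.lift_one_of_mem F.Q.one_mem
theorem lift_σ (v : V6) : F.Lift (F.σ v) 1 := F.lift_one_of_mem (F.σ_mem v)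
theorem lift_z : F.Lift z 1 := F.lift_one_of_mem F.z_mem
theorem lift_zp (a : ZMod 2) : F.Lift (zp z a) 1 := F.lift_one_of_mem (F.zp_mem a)

theorem lift_x : F.Lift F.x om :=
  F.lift_of_conj F.x_z fun v => ⟨0, by rw [F.x_conj, zp_zero, mul_one, om_apply]⟩

/-- two lifts of the same element differ by an element of `Q` -/
theorem Lift.exists_eq {F : PreFrame z} {c d : G} {g : AV} (h : F.Lift c g) (h' : F.Lift d g) :
    ∃ v ε, c = F.σ v * zp z ε * d := by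
  obtain ⟨v, ε, e⟩ := Lift.mem_Q (F := F) (c := c * d⁻¹) (by simpa using h.mul h'.inv)
  exact ⟨v, ε, by rw [← e, inv_mul_cancel_right]⟩

theorem L3 : H95.L3 F.Q z where
  mem := F.z_mem
  ne_one := F.z1
  sq := F.zz
  central _ := F.Q_z
  comm := by
    rintro _ ⟨v, a, rfl⟩ _ ⟨w, b, rfl⟩
    have e : F.σ v * zp z a * (F.σ w * zp z b) = F.σ w * zp z b * (F.σ v * zp z a) * zp z (Bv v w) := by
      rw [F.elt_mul, F.elt_mul, mul_assoc, F.zp_add', add_comm w, ← βv_add_swap]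
      congr 2
      generalize βv v w = p; generalize βv w v = q; revert a b p q; decide
    rcases zp_cases z (Bv v w) with h | h <;> rw [h] at e
    · exact Or.inl (by rw [e, mul_one])
    · exact Or.inr e
  nondeg := by
    rintro _ ⟨v, a, rfl⟩ h
    have : v = 0 := Bv_nondeg fun u => (F.σ_commute_iff v u).1 (by
      have := h _ (F.σ_mem u)
      rw [mul_assoc, F.σ_zp, ← mul_assoc, ← mul_assoc] at this
      exact mul_right_cancel this)
    rw [this, F.σ_zero, one_mul]; exact zp_cases z a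
  nonab := ⟨_, F.σ_mem (vec 1), _, F.σ_mem (vec 64), fun h => absurd ((F.σ_commute_iff _ _).1 h) (by decide)⟩
  cent g hg := by
    have h1 : F.Lift g 1 := F.lift_of_conj (hg z F.z_mem).symm fun v =>
      ⟨0, by rw [← hg _ (F.σ_mem v), mul_inv_cancel_right, zp_zero, mul_one, AV.one_apply]⟩
    obtain ⟨v, a, rfl⟩ := h1.mem_Q
    have : v = 0 := Bv_nondeg fun u => (F.σ_commute_iff v u).1 (by
      have := (hg _ (F.σ_mem u)).symm
      rw [mul_assoc, F.σ_zp, ← mul_assoc, ← mul_assoc] at this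
      exact mul_right_cancel this)
    rw [this, F.σ_zero, one_mul]; exact zp_cases z a
  norm g hg := by
    obtain ⟨k, hk⟩ := F.exists_lift hg
    refine mem_normalizer_of_conj ?_ ?_
    · rintro _ ⟨v, a, rfl⟩
      obtain ⟨ε, e⟩ := hk.conj_elt v a
      exact ⟨_, ε, e⟩
    · rintro _ ⟨v, a, rfl⟩
      obtain ⟨ε, e⟩ := hk.inv.conj_elt v a
      exact ⟨_, ε, by simpa using e⟩

theorem ker_eq : F.ρ.ker = F.Q.subgroupOf (centralizer ({z} : Set G)) := by
  ext c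
  exact ⟨fun h => F.ker c h, fun h => (F.lift_one_of_mem h).2⟩

include F in
theorem card_cent : Nat.card (centralizer ({z} : Set G)) = 2 ^ 13 * 19595520 := by
  rw [← F.card_range, ← F.card_Q, ← Nat.card_congr (QuotientGroup.quotientKerEquivRange F.ρ).toEquiv,
    card_eq_card_quotient_mul_card_subgroup F.ρ.ker, mul_comm, F.ker_eq,
    Nat.card_congr (subgroupOfEquivOfLe F.L3.le_centralizer).toEquiv]

/-! ### canonical lifts: the normaliser of `⟨x⟩` -/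

theorem x_inv : F.x⁻¹ = F.x * F.x := inv_eq_of_mul_eq_one_right (by rw [← mul_assoc, F.x_cube])

variable {F}

/-- elements commuting with `x` preserve the section -/
theorem Lift.conj_lin {c : G} {g : AV} (h : F.Lift c g) (hx : c * F.x = F.x * c) (v : V6) :
    c * F.σ v * c⁻¹ = F.σ (g v) := by
  obtain ⟨ε, e⟩ := h.conj v
  have hx' : ∀ y, F.x * (c * y * c⁻¹) * F.x⁻¹ = c * (F.x * y * F.x⁻¹) * c⁻¹ := fun y => by
    rw [← mul_assoc, ← mul_assoc, ← hx, mul_assoc _ c⁻¹, ← mul_inv_rev, ← hx]; group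
  have hz : ∀ u, F.x * (F.σ u * zp z ε) * F.x⁻¹ = F.σ (F4.w • u) * zp z ε := fun u => by
    rw [F.lift_x.conj_mul_zp, F.x_conj]
  have e1 : c * F.σ (F4.w • v) * c⁻¹ = F.σ (F4.w • g v) * zp z ε := by rw [← F.x_conj, ← hx', e, hz]
  have e2 : c * F.σ (F4.v • v) * c⁻¹ = F.σ (F4.v • g v) * zp z ε := by
    rw [← w_w_smul, ← F.x_conj, ← hx', e1, hz, w_w_smul]
  have e3 : (c * F.σ v * c⁻¹) * (c * F.σ (F4.w • v) * c⁻¹) * (c * F.σ (F4.v • v) * c⁻¹) = 1 := by
    rw [show (c * F.σ v * c⁻¹) * (c * F.σ (F4.w • v) * c⁻¹) * (c * F.σ (F4.v • v) * c⁻¹) =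
      c * (F.σ v * F.σ (F4.w • v) * F.σ (F4.v • v)) * c⁻¹ by group, F.σ_triple]; group
  rw [e, e1, e2, F.elt_mul, F.elt_mul, add_w_smul, V6_add_self, F.σ_zero, one_mul, zp_eq_one_iff F.z1,
    βv_self_w] at e3
  have : ε = 0 := by
    have h1 : βv (F4.v • g v) (F4.v • g v) = qv (g v) := qv_smul _ (by decide) _
    rw [h1] at e3
    exact (by decide : ∀ p ε : ZMod 2, p + (p + ε + ε) + ε = 0 → ε = 0) _ _ e3
  rw [e, this, zp_zero, mul_one]

/-- elements inverting `x` preserve the section up to the quadratic form -/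
theorem Lift.conj_semi {c : G} {g : AV} (h : F.Lift c g) (hx : c * F.x = F.x⁻¹ * c) (v : V6) :
    c * F.σ v * c⁻¹ = F.σ (g v) * zp z (qv v) := by
  obtain ⟨ε, e⟩ := h.conj v
  have hx' : ∀ y, F.x⁻¹ * (c * y * c⁻¹) * F.x = c * (F.x * y * F.x⁻¹) * c⁻¹ := fun y => by
    have : c⁻¹ * F.x = F.x⁻¹ * c⁻¹ := by
      rw [← mul_inv_rev, hx, mul_inv_rev, inv_inv]
    rw [← mul_assoc, ← mul_assoc, ← hx, mul_assoc _ c⁻¹, this]; group
  have hz : ∀ u, F.x⁻¹ * (F.σ u * zp z ε) * F.x = F.σ (F4.v • u) * zp z ε := fun u => by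
    rw [← F.x_conj']; simpa only [inv_inv] using F.lift_x.inv.conj_mul_zp (F.σ u) ε
  have e1 : c * F.σ (F4.w • v) * c⁻¹ = F.σ (F4.v • g v) * zp z ε := by rw [← F.x_conj, ← hx', e, hz]
  have e2 : c * F.σ (F4.v • v) * c⁻¹ = F.σ (F4.w • g v) * zp z ε := by
    rw [← w_w_smul, ← F.x_conj, ← hx', e1, hz, v_v_smul]
  have e3 : (c * F.σ v * c⁻¹) * (c * F.σ (F4.w • v) * c⁻¹) * (c * F.σ (F4.v • v) * c⁻¹) = 1 := by
    rw [show (c * F.σ v * c⁻¹) * (c * F.σ (F4.w • v) * c⁻¹) * (c * F.σ (F4.v • v) * c⁻¹) =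
      c * (F.σ v * F.σ (F4.w • v) * F.σ (F4.v • v)) * c⁻¹ by group, F.σ_triple]; group
  rw [e, e1, e2, F.elt_mul, F.elt_mul, add_v_smul, V6_add_self, F.σ_zero, one_mul, zp_eq_one_iff F.z1,
    βv_self_v] at e3
  have : ε = qv v := by
    have h1 : βv (F4.w • g v) (F4.w • g v) = qv v :=
      (qv_smul _ (by decide) _).trans (N1_le_isoQ h.mem_N1 v)
    rw [h1] at e3
    exact (by decide : ∀ p ε : ZMod 2, p + (0 + ε + ε) + ε = 0 → ε = p) _ _ e3
  rw [e, this]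

/-- an element of order 3 over `ω` is conjugate to `x` under `Q` -/
theorem exists_conj_x {y : G} (h : F.Lift y om) (hy : y * y * y = 1) :
    ∃ u, F.σ u * y * (F.σ u)⁻¹ = F.x := by
  obtain ⟨v, a, rfl⟩ := h.exists_eq F.lift_x
  have e1 : ∀ u, F.x * F.σ u = F.σ (F4.w • u) * F.x := fun u => by rw [← F.x_conj, inv_mul_cancel_right]
  have e2 : ∃ b, F.σ (F4.w • v) * (F.σ v * zp z a * F.x) * (F.σ (F4.w • v))⁻¹ = zp z b * F.x := by
    refine ⟨βv (F4.v • v) (F4.v • v) + (βv (F4.w • v) v + 0 + a) + qv (F4.w • v), ?_⟩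
    have := F.elt_mul (F4.w • v) v 0 a
    rw [zp_zero, mul_one] at this
    rw [F.σ_inv, ← mul_assoc (F.σ _) _ F.x, this, mul_assoc, ← mul_assoc F.x, e1, w_w_smul,
      mul_assoc (F.σ (F4.v • v)), F.lift_x.zp_comm, ← mul_assoc (F.σ (F4.v • v)), ← mul_assoc, F.elt_mul,
      add_comm _ v, add_w_smul, V6_add_self, F.σ_zero, one_mul]
  obtain ⟨b, e2⟩ := e2
  refine ⟨F4.w • v, ?_⟩
  have h3 : (zp z b * F.x) * (zp z b * F.x) * (zp z b * F.x) = 1 := by
    rw [← e2, show ∀ s y : G, s * y * s⁻¹ * (s * y * s⁻¹) * (s * y * s⁻¹) = s * (y * y * y) * s⁻¹ from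
      fun s y => by group, hy]; group
  have hc := F.lift_x.zp_comm b
  have : zp z b = 1 := by
    rw [show (zp z b * F.x) * (zp z b * F.x) * (zp z b * F.x) =
      zp z b * (F.x * zp z b) * (F.x * zp z b) * F.x by group, hc,
      show zp z b * (zp z b * F.x) * (zp z b * F.x) * F.x = zp z b * zp z b * (F.x * zp z b) * F.x * F.x by group,
      hc, F.zp_self, one_mul, mul_assoc, mul_assoc, ← mul_assoc F.x, F.x_cube, mul_one] at h3
    exact h3
  rw [e2, this, one_mul]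

variable (F)

/-- linear elements have lifts commuting with `x` -/
theorem lift_lin {g : AV} (hg : g ∈ F.ρ.range) (hl : g ∈ linV) : ∃ c, F.Lift c g ∧ c * F.x = F.x * c := by
  obtain ⟨c, hc⟩ := F.lift_of_mem hg
  have h1 : F.Lift (c * F.x * c⁻¹) om := by
    have := (hc.mul F.lift_x).mul hc.inv
    rwa [mem_linV.1 hl, mul_inv_cancel_right] at this
  obtain ⟨u, e⟩ := exists_conj_x h1 (by
    rw [show c * F.x * c⁻¹ * (c * F.x * c⁻¹) * (c * F.x * c⁻¹) = c * (F.x * F.x * F.x) * c⁻¹ by group,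
      F.x_cube]; group)
  refine ⟨F.σ u * c, by simpa using (F.lift_σ u).mul hc, ?_⟩
  rw [← mul_inv_eq_iff_eq_mul]
  conv_rhs => rw [← e]
  group

/-- semilinear elements have lifts inverting `x` -/
theorem lift_semi {g : AV} (hg : g ∈ F.ρ.range) (hs : g * om = om * om * g) :
    ∃ c, F.Lift c g ∧ c * F.x = F.x⁻¹ * c := by
  obtain ⟨c, hc⟩ := F.lift_of_mem hg
  have h1 : F.Lift (c * F.x⁻¹ * c⁻¹) om := by
    have := ((hc.mul F.lift_x).mul hc.inv).inv
    rw [hs, mul_inv_cancel_right, inv_eq_of_mul_eq_one_right om_cube] at this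
    simpa [mul_assoc] using this
  obtain ⟨u, e⟩ := exists_conj_x h1 (by
    rw [show c * F.x⁻¹ * c⁻¹ * (c * F.x⁻¹ * c⁻¹) * (c * F.x⁻¹ * c⁻¹) = c * (F.x * F.x * F.x)⁻¹ * c⁻¹ by group,
      F.x_cube]; group)
  refine ⟨F.σ u * c, by simpa using (F.lift_σ u).mul hc, ?_⟩
  rw [← mul_inv_eq_iff_eq_mul]
  conv_rhs => rw [← e]
  group

theorem lift_K0 {g : AV} (hg : g ∈ K0) : ∃ c, F.Lift c g ∧ c * F.x = F.x * c :=
  F.lift_lin (F.K_le hg) (K0_le_linV hg)

/-- `C_Q(x) = ⟨z⟩` -/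
theorem eq_zp_of_comm {c : G} (h : F.Lift c 1) (hx : c * F.x = F.x * c) : ∃ ε, c = zp z ε := by
  obtain ⟨v, a, rfl⟩ := h.mem_Q
  have e : F.σ (F4.w • v) * zp z a = F.σ v * zp z a := by
    rw [← F.x_conj, ← F.lift_x.conj_zp a,
      show F.x * F.σ v * F.x⁻¹ * (F.x * zp z a * F.x⁻¹) = F.x * (F.σ v * zp z a) * F.x⁻¹ by group, ← hx,
      F.lift_x.conj_zp, mul_inv_cancel_right]
  have h1 := add_w_smul v
  rw [(F.elt_inj e).1, V6_add_self] at h1
  have : v = 0 := by rw [← w_v_smul v, ← h1, smul_zero]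
  exact ⟨a, by rw [this, F.σ_zero, one_mul]⟩

/-- every element over `v` is conjugate in `Q` to `σ v` -/
theorem exists_conj_σ {v : V6} (hv : v ≠ 0) (a : ZMod 2) : ∃ u, F.σ u * F.σ v * (F.σ u)⁻¹ = F.σ v * zp z a := by
  rcases zmod2_cases a with rfl | rfl
  · exact ⟨0, by rw [F.σ_conj, Bv_zero_left]⟩
  · by_contra hn
    refine hv (Bv_nondeg fun u => (zmod2_cases _).resolve_right fun h => hn ⟨u, ?_⟩)
    rw [F.σ_conj, Bv_comm, h]

theorem isConj_elt {v : V6} (hv : v ≠ 0) (a : ZMod 2) : IsConj (F.σ v) (F.σ v * zp z a) := by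
  obtain ⟨u, e⟩ := F.exists_conj_σ hv a
  exact isConj_iff.2 ⟨_, e⟩

/-- elements over one `K0`-orbit are conjugate in `C(z)` -/
theorem exists_conj_of_K0 {g : AV} (hg : g ∈ K0) {v : V6} (hv : v ≠ 0) (a b : ZMod 2) :
    ∃ c, c * z = z * c ∧ c * (F.σ v * zp z a) * c⁻¹ = F.σ (g v) * zp z b := by
  obtain ⟨c, hc, hx⟩ := F.lift_K0 hg
  obtain ⟨u, e⟩ := F.exists_conj_σ hv (a + b)
  refine ⟨c * F.σ u, (hc.mul (F.lift_σ u)).comm, ?_⟩
  have : F.σ u * (F.σ v * zp z a) * (F.σ u)⁻¹ = F.σ v * zp z b := by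
    rw [(F.lift_σ u).conj_mul_zp, e, mul_assoc, F.zp_add',
      (by decide : ∀ a b : ZMod 2, a + b + a = b)]
  rw [show c * F.σ u * (F.σ v * zp z a) * (c * F.σ u)⁻¹ = c * (F.σ u * (F.σ v * zp z a) * (F.σ u)⁻¹) * c⁻¹ by
    group, this, hc.conj_mul_zp, hc.conj_lin hx]

end PreFrame

end H12.F24
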