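import Mathlib
import Cfsg.Agent.Lib.F24T.Pre
import Cfsg.Agent.Lib.F24T.ChX

/-!
# Normal `2`-subgroups of the stabilisers of singular vectors
-/

set_option autoImplicit false
set_option maxRecDepth 100000

namespace H12.F24

open Subgroup H94 H95 H54 MulAction
open H30 (F4)
open scoped Pointwise

theorem card_isotropic (W : AddSubgroup V6) (h : ∀ u ∈ W, ∀ v ∈ W, Bv u v = 0) : Nat.card W ≤ 64 := by
  classical
  have e1 : ∑ w : W, ∑ v : V6, sgn (Bv w v) = 4096 := by
    rw [Finset.sum_eq_single 0]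
    · simp only [ZeroMemClass.coe_zero, Bv_zero_left, sgn_zero, Finset.sum_const, Finset.card_univ]
      rw [← Nat.card_eq_fintype_card, card_V6]; rfl
    · intro w _ hw
      obtain ⟨u, hu⟩ := not_forall.1 fun h => hw (Subtype.ext (Bv_nondeg h))
      exact sum_sgn_eq_zero _ (Bv_add_right w) hu
    · intro h; exact absurd (Finset.mem_univ _) h
  have e2 : ∀ v : V6, (if v ∈ W then (Nat.card W : ℤ) else 0) ≤ ∑ w : W, sgn (Bv w v) := fun v => by
    by_cases h0 : ∀ w : W, Bv w v = 0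
    · simp only [h0, sgn_zero, Finset.sum_const, Finset.card_univ, Nat.card_eq_fintype_card]
      split_ifs <;> simp
    · obtain ⟨w, hw⟩ := not_forall.1 h0
      rw [sum_sgn_eq_zero (fun w : W => Bv w v) (fun a b => Bv_add_left a b v) hw,
        if_neg fun hv => hw (h w w.2 v hv)]
  have e3 := Finset.sum_le_sum fun v (_ : v ∈ Finset.univ) => e2 v
  rw [Finset.sum_comm, e1, ← Finset.sum_filter, Finset.sum_const, ← Fintype.card_subtype,
    ← Nat.card_eq_fintype_card, nsmul_eq_mul] at e3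
  have e4 : Nat.card W * Nat.card W ≤ 64 * 64 := by exact_mod_cast e3
  exact Nat.mul_self_le_mul_self_iff.1 e4

theorem fix_all {Γ α : Type*} [Group Γ] [MulAction Γ α] {E J : Subgroup Γ} (hE : IsPGroup 2 E)
    (hJ : J ≤ normalizer (E : Set Γ)) {Ω : Set α} (hΩ : ¬ 2 ∣ Ω.ncard) (inv : ∀ e ∈ E, ∀ a ∈ Ω, e • a ∈ Ω)
    {a₀ : α} (tr : ∀ a ∈ Ω, ∃ j ∈ J, j • a₀ = a) : ∀ a ∈ Ω, ∀ e ∈ E, e • a = a := by
  let S : SubMulAction E α := ⟨Ω, fun e a ha => inv e e.2 a ha⟩
  obtain ⟨b, hb⟩ := hE.nonempty_fixed_point_of_prime_not_dvd_card S hΩ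
  obtain ⟨j, hj, e1⟩ := tr b b.2
  intro a ha e he
  obtain ⟨k, hk, rfl⟩ := tr a ha
  have := congrArg Subtype.val (hb ⟨_, conj_mem_of_normalizer' (hJ (mul_mem hk (inv_mem hj))) he⟩)
  change ((k * j⁻¹)⁻¹ * e * (k * j⁻¹)) • (b : α) = b at this
  rw [← e1, ← mul_smul, mul_assoc, mul_assoc, mul_smul, inv_smul_eq_iff, ← mul_smul] at this
  simpa [mul_smul] using this

def cJ3 : List ℕ := [0x913ee80ef7ccf6cfac4f7a13bec313b11b12, 0xbef7df03703bf40f80bc07c0df7efb03d03e]
def pJ3 : List ℕ := [0xbfdfafb7cbdde92484972351d0b379ba2f1840161e0ef22919c66632c18b8092bbac98630bc767f5257584a2e92918443239cd71515799d9146336e305dced72c101c87a1d3ad76a9e556bc3d1c0726d5faa0dc7c12179b2613148c66e849172f408031ab14229a9eaa876cb0da626ea44b40c640b0550681659d3e668ff6a414ba8596adcd0678396c110ca52d6ed75a8abec4ce1131ab6a9ac32030cc611ca9b6db60944c0f0f1ec287536a7234f224385780200ac5616f55bd94afc8135dcd0f95512ccf37c368a87c90265fcd8271da4c9b5b24e8e9f50168b2e221908d46b8520568824a5193a9e67841883f6d8d1921a650e5b23ab4c6da0bf60379bad553c915b1e3211ef070464caf2b85cd2292a10b134405387218185e73b59864a894883afa750f2211c09bd1d03602b9296b3b9dc9072f47a4080e06f8b05ad39ac9e772125bb2dd1439a892f2b2a942b2783ed689e56b19f8ef50bb9c460f15f01c0c6984c2062444549446fd31335111f0cbdcc0c70697e852ca7c36d1678ac5a532813c0202240fbee7089ae9e94d11ab1e42af59f22ea6745644ec07f4ad1698b2b8dc082d2158a9a22814aed7400,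 0xbfdfafb7cbdde8c91a990944c73783bdc0df51b0d409f4823de767b40b889198815078fd65ab4f73f93986244e1b3dd8aa73ace6426307b8da69341d3ccc65999b5c2bd48d9884431dbf932ae748506af84daa1d61e2e164d0678d9b1e2bc50d94542b29bfd12af6c8489af945aa5b61c2d904d26a35ae9777988842261a072056ad182c3cde6e763714574189262d15442619a179dc8d149a638866b1d40434e0de6edcae64a7d491e91e6acb8134b4b40ce2ee76dc2e2327dcf1eb3672d18114c43408e56f7e54eac183e9f9ed5db0088ee785a4ae8607034392a8580c0180bf4e231e56e1992e31176c3a0f8199ec95b4ea3b08e6f1f6842d828e46db2da4855499492042536580d722cd849e4edaad63055cf94b384a53a880c6a2c97d695605aab54673314c20afd7990c6824325b4505829ccd658ac2c82d161188b1408980366220160b52fa3816f04709c88ae52a955c3b1c28932b96149419c4b62fcc263420200eee2f0ace87e3aa8d603f341c8d2b7624141da4b72f4aa914901006eb76138a052243f9e99eca2a9587a3ea8564f27464b109e501b8e2b563a54292e8784425ced75c2e4bb29945068000]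
def wJ3 : ℕ := 0xee41def1fc012181a080bd81bd804141904193b07fb17fb06001ff41ff40b3f06101f1b1f1b0c3014081ecc03fc1dfb0ccf1ddf1ddf063716370ad70fd30220010c110c0d0b1d0b00140afc1f271924011012281228082418dc053b17e4091f191f0a371a370204120403081308061812ff12ff0bfb14ec14ec0e3f0a201a200bf00de81de8062f150005eb133b133b081016fc16fc00241024050415040fc71fc70808180801201fe31fe30ef71ef704301c101c100d3f07ef07f717f7020c120c0dd8151415140f171dcc1dcc0c2019db19db03041304072317230830183002f412f40c1f0a1f1a1f010811080bf71bf703000fdc1fdc042014200fcb1fcb030c130c08ff18ff000c100c0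
def cJ15 : List ℕ := [0x7caa85faaeeaa1589529516fa94a9157d577, 0xab39b3393ba376cc9ccd9cd54dd8cdb3172e]
def pJ15 : List ℕ := [0xbfdfafb7cbddea42b0592f5770c3219ccc6985dc006000280ae706841b8e13a10d66b07a202a486df70a50933197a48c0900f3ddf07cbc9b0d4b95bc29389d69965902c7d862b95a4052c53172db45312428cdc78e91832554ac6298dac13770ca8541454d47d2626b6d45152fd344af30b35e1ec06140e03643f12d2c239fdaadb0e86c70a8539047d6a88baddc12070e86eaccb532948e459738d1c8c44ad1a8a050d1e90311d464b53915065ded22c31d8cad57d86c6171249c994f090cdfcc43135536727a39ea513674b1bacf94ccdcd5439d9ad00b06a6a3d1d2b15ecb6705031d7041b0d67d3d944a894976e37aa151111fdeaf661b60ecff7e840295f8a13e6827882ba8674b121908f1780ac5d4591176943d8d27eba82a49e20aea4a918f64146880fa1f4998548486caf872389dcf00c08bc5d81f69b65aedc0e66cadcb5360afc6f02800d288752f459d14e1322c7f36684949ca355c6cef40b00442a87763b6bc832848de5381da04514c6d460b8994f4450b5ba31e45a2f7d3f0d66d2aae16c529832a64f9488691e1c72556aee289381504253911992d329a174bc59ac60f09379c40372b7dd2e204,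 0xbfdfafb7cbdde84e6e5d421620332dcee06801004cf71b919808b084aecde24531f5961f558755560318443555303e424f80a310ecfd51538bf4d2f3ce2017b1abaaeafac29d987a5f026ee08bc2d6f2b6362dcdb0a101d4f2c87e56de95c7ad42262287b0a04c181d920965065981a7366865005ca596e98d13c54ebccf2edaed96db516a6c4d1fc99b28a1c47e76544a389c244204b4832e23a31c6952913e84328db590eec9a48516ea988cd1e909835542826a0c635474cb62453f6f20e51296e8c0683d4eb9c5a2c4f4b0572b783bc54967595a7b1d1b26270511dc923c352bcf9d29a284de463c42349e22e2c514b34617a71a6851d0de544a99b992edc8e4e536daa4a80969fa4395229272126652f44ba2752777505274076920985546915ae464751086dfa1b8084866da207d259a93a403929cf2dd0d0783a1d69aa324fd5d14c60e5171430d8e23b3829e40bb420581008cc057f4a7d549f751ad44430f6671fc2c7b5c1aa9e6b5cc500f75685d80ca3b0aa6c4a856d658c7410c4a2a265a0962d050e3f83cff65188f95f7b8414a1352056acc5309dc36ac00015787059c197a715941e1774321a6df0c]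
def wJ15 : ℕ := 0xc1000300fe6100c00061fe303f503f313f30fd91fd60fd51fd500090fea1fea03f913f90c2f1c2f0fec1fe91fe90c1f1c1f000a100a000310030
def cE0 : ℕ := 0x41fbe06eb5e77ae76d3d03efc1bc17c1ec1d
def pE0 : ℕ := 0xbfdfafb7cbddea1408048180f74b85c6e573b7da6db6cb5daadc0b05034190f53aa550cb3e33cfcf57a3d95aaf57314ecc93c3edf4fc8a17cbc5b2e465208f48b8d28e74b371bcdd9d0e072361acfe683e1f8f077396b209409f50b4d08d7433b1dced91140a24e26c9e38562b950a7217324a9429140944d4f641d19c7ab24361d0c85de611098341d687360b097ec00e0783550a954424140856ab95b51204884221ca6512a4426d1499a246c6631a31605c2a15d0681424c22d3489964cc96499710100a3af4443217b018aa91311886ac603940a070080ad578bd5d2ecd66a369b17d05592cd60b1ac55eb21b0f876c561b18442a13683ce5f31981188a4775365d0db1950cb3451846a8f49a40b4582f6d3a5b0eb254ac832d244c9e4d10c574c75f0b440455330d5441128230ce071371bd6eb65cae0d2653319cd0643eb28eec4a7534b54ba61752ae28fc80691e8e8de4b261d492463d6aa1da8834e2793af177bc10ad29bce099369a93e7b3e294f2765572a5dc893463851c8d6fb823117124562c27639e58c7555bf954ff563f59a7f661ed4af8523e54cf70703ecd65b459eef78badd80a010100c0800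

theorem stab_mats {P S : List ℕ} {x : ℕ} (hx : x < 4096)
    (h : all2 (fun p M => band (memb cfg chK p) (Nat.beq (matOf p) M)) P S = true)
    (h' : allL (fun M => Nat.beq (lin M x) x) S = true) :
    ∀ M ∈ S, ∃ g ∈ K0 ⊓ stabilizer AV (vec x), Mat g M := fun M hM => by
  obtain ⟨g, hg, m⟩ := all_of_memb goodK h M hM
  exact ⟨g, ⟨hg, (m.apply_eq_iff x hx).2 (Nat.eq_of_beq_eq_true ((allL_iff _ _).1 h' M hM))⟩, m⟩

theorem pt_eq {i x : ℕ} (h : Nat.beq (sc i) x = true) : pt i = vec x := congrArg vec (Nat.eq_of_beq_eq_true h)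

theorem goodN1 : H54.Good cfg pt chN_1 (N1 ⊓ stabilizer AV (pt 0)) := goodN.2.2.2
theorem goodN4 : H54.Good cfg pt chN_4 (N1 ⊓ stabilizer AV (pt 0) ⊓ stabilizer AV (pt 5) ⊓ stabilizer AV (pt 14) ⊓
    stabilizer AV (pt 267)) := goodN1.2.2.2.2.2.2.2.2.2

theorem card_le_eight {E : Subgroup AV} (hE : IsPGroup 2 E) (h : E ≤ N1 ⊓ stabilizer AV (vec 3))
    (hJ : K0 ⊓ stabilizer AV (vec 3) ≤ normalizer (E : Set AV)) : Nat.card E ≤ 8 := by
  rw [← pt_eq (i := 0) (by decide +kernel)] at h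
  have o : orbit (N1 ⊓ stabilizer AV (pt 0) : Subgroup AV) (pt 5) = pt '' {δ | tb chN_1.orb δ = true} :=
    goodN1.orbit_cons
  have hD : ∀ δ, tb chN_1.orb δ = true → δ < cfg.n := fun δ => lt_of_tb (by decide +kernel)
  have f := fix_all hE hJ (Ω := pt '' {δ | tb chN_1.orb δ = true}) (a₀ := vec 12)
    (by rw [tb_card ctx hD]; decide +kernel) (fun e he a ha => by
      rw [← o] at ha ⊢
      exact mem_orbit_of_mem_orbit (⟨e, h he⟩ : (N1 ⊓ stabilizer AV (pt 0) : Subgroup AV)) ha) (by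
      rintro _ ⟨δ, hδ, rfl⟩
      have c : (force (walkM cJ3 wJ3 134 (Nat.shiftLeft 1 12)) fun W =>
          allLt (fun δ => bimp (tb chN_1.orb δ) (tb W (sc δ))) 378) = true := by decide +kernel
      rw [force_eq, allLt_iff] at c
      have := c δ (hD δ hδ)
      rw [show tb chN_1.orb δ = true from hδ] at this
      exact orbit_of_walk (stab_mats (P := pJ3) (by norm_num) (by decide +kernel) (by decide +kernel)) wJ3 134 12 this)
  have k : ∀ δ, tb chN_1.orb δ = true → E ≤ stabilizer AV (pt δ) := fun δ hδ e he => f _ ⟨δ, hδ, rfl⟩ e he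
  refine (card_le_of_le (le_inf (le_inf (le_inf h (k 5 (by decide +kernel))) (k 14 (by decide +kernel)))
    (k 267 (by decide +kernel)))).trans ?_
  rw [goodN4.card ctx Kbot]
  decide +kernel

/-- the vectors of `S378` whose sum with `15` lies in `S378` -/
def D30 : Set V6 := {u | u ∈ S378 ∧ u + vec 15 ∈ S378}

theorem mem_D30 {x : ℕ} (hx : x < 4096) : vec x ∈ D30 ↔ tb SM x = true ∧ tb SM (Nat.xor x 15) = true := by
  rw [← mem_S378 hx, ← mem_S378 (x := Nat.xor x 15) (Nat.xor_lt_two_pow (n := 12) hx (by norm_num)), vec_xor]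
  rfl

/-- `O₂` of the stabiliser of `15` in `H0` -/
def E0 : Subgroup AV :=
  subFin {g | g ∈ N1 ∧ g (vec 15) = vec 15 ∧ ∀ u ∈ D30, g u = u ∨ g u = u + vec 15}
    ⟨N1.one_mem, rfl, fun _ _ => Or.inl rfl⟩ (by
      rintro a b ⟨a1, a2, a3⟩ ⟨b1, b2, b3⟩
      refine ⟨N1.mul_mem a1 b1, by rw [AV.mul_apply, b2, a2], fun u hu => ?_⟩
      rw [AV.mul_apply]
      rcases b3 u hu with e | e <;> rw [e]
      · exact a3 u hu
      · rw [map_add, a2]
        rcases a3 u hu with e | e <;> rw [e]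
        · exact Or.inr rfl
        · exact Or.inl (by rw [add_assoc, V6_add_self, add_zero]))

theorem mem_E0 {g : AV} : g ∈ E0 ↔ g ∈ N1 ∧ g (vec 15) = vec 15 ∧ ∀ u ∈ D30, g u = u ∨ g u = u + vec 15 :=
  Iff.rfl

def RM : ℕ := 0x6800680000000000000000000000000000000000000000000000000000000000000000000000000000000000000000000000000000000000000000000000000000000000000000000000000000000000000000000000000000000000000000000000000000000000000000000000000000000000000000000100010000000000000000000000000000000000000000000000000000000000000000000000000000000000000000000000000000000000000000000000000000000000000000000000000000000000000000000000000000000000000000000000000000000000000000000000000000000000000000000000000000000000000000000000000000000000000000000000000000000000000000000000000000000000000000000000000000000000000000000000000000000000000000000000000000000000000000000000000000000000000000000000000000000000000000000000000000000000000000000000000000000000000000000000000000000000000068000000000000000000000000000000000000000000000000000000000000000000000000000000000000000000000000000000000000000000000000000000000000000000000000000000000000000000000000000000000000000000000000000000000000000000000000000000000000000000000001000000000068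

theorem ncard_pairs : ((fun u => ({u, u + vec 15} : Set V6)) '' D30).ncard = 15 := by
  have c : allLt (fun x => band (bimp (tb RM x) (band (band (tb SM x) (tb SM (Nat.xor x 15)))
      (bnot (tb RM (Nat.xor x 15))))) (bimp (band (tb SM x) (tb SM (Nat.xor x 15)))
      (bor (tb RM x) (tb RM (Nat.xor x 15))))) 4096 = true := by decide +kernel
  have hc : cntLt (tb RM) 4096 = 15 := by decide +kernel
  simp only [allLt_iff, band_eq_true, bimp_eq_true, bor_eq_true, bnot_eq_true] at c
  have hx : ∀ {x}, x < 4096 → Nat.xor x 15 < 4096 := fun h => Nat.xor_lt_two_pow (n := 12) h (by norm_num)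
  rw [cntLt_eq] at hc
  refine Eq.trans ?_ hc
  rw [← Set.ncard_coe_finset, ← Set.InjOn.ncard_image (f := fun x => ({vec x, vec x + vec 15} : Set V6))]
  · congr 1
    ext s
    simp only [Set.mem_image, Finset.coe_filter, Finset.mem_range, Set.mem_ofPred_eq]
    constructor
    · rintro ⟨u, hu, rfl⟩
      obtain ⟨x, h, rfl⟩ := exists_vec u
      rcases (c x h).2 ((mem_D30 h).1 hu) with e | e
      · exact ⟨x, ⟨h, e⟩, rfl⟩
      · exact ⟨_, ⟨hx h, e⟩, by rw [vec_xor, add_assoc, V6_add_self, add_zero, Set.pair_comm]⟩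
    · rintro ⟨x, ⟨h, e⟩, rfl⟩
      exact ⟨_, (mem_D30 h).2 ((c x h).1 e).1, rfl⟩
  · intro x h1 y h2 e
    simp only [Finset.coe_filter, Finset.mem_range, Set.mem_ofPred_eq] at h1 h2
    have : vec x ∈ ({vec y, vec y + vec 15} : Set V6) := by
      rw [show ({vec y, vec y + vec 15} : Set V6) = {vec x, vec x + vec 15} from e.symm]; exact Or.inl rfl
    rcases this with e | e
    · exact vec_inj h1.1 h2.1 e
    · have h3 := ((c y h2.1).1 h2.2).2
      rw [← vec_inj h1.1 (hx h2.1) (e.trans (vec_xor _ _).symm), h1.2] at h3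
      exact Bool.noConfusion h3

theorem le_E0 {E : Subgroup AV} (hE : IsPGroup 2 E) (h : E ≤ N1 ⊓ stabilizer AV (vec 15))
    (hJ : K0 ⊓ stabilizer AV (vec 15) ≤ normalizer (E : Set AV)) : E ≤ E0 := by
  have sm : ∀ g : AV, g (vec 15) = vec 15 → ∀ u,
      g • ({u, u + vec 15} : Set V6) = {g u, g u + vec 15} := fun g hg u => by
    rw [← Set.image_smul, Set.image_pair, AV.smul_def, AV.smul_def, map_add, hg]
  have f := fix_all hE hJ (Ω := (fun u => ({u, u + vec 15} : Set V6)) '' D30) (a₀ := {vec 3, vec 3 + vec 15})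
    (by rw [ncard_pairs]; decide) (by
      rintro e he _ ⟨u, hu, rfl⟩
      refine ⟨e u, ⟨(N1_S378 (h he).1).2 hu.1, ?_⟩, (sm e (h he).2 u).symm⟩
      rw [← show e (vec 15) = vec 15 from (h he).2, ← map_add]
      exact (N1_S378 (h he).1).2 hu.2) (by
      rintro _ ⟨u, hu, rfl⟩
      obtain ⟨x, hx, rfl⟩ := exists_vec u
      have c : (force (walkM cJ15 wJ15 29 (Nat.shiftLeft 1 3)) fun W => allLt (fun x =>
          bimp (band (tb SM x) (tb SM (Nat.xor x 15))) (tb W x)) 4096) = true := by decide +kernel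
      simp only [force_eq, allLt_iff, band_eq_true, bimp_eq_true] at c
      obtain ⟨j, hj, e⟩ := orbit_of_walk (stab_mats (P := pJ15) (x := 15) (by norm_num) (by decide +kernel)
        (by decide +kernel)) wJ15 29 3 (c x hx ((mem_D30 hx).1 hu))
      exact ⟨j, hj, by rw [sm j hj.2, e]⟩)
  refine fun e he => ⟨(h he).1, (h he).2, fun u hu => ?_⟩
  have := f _ ⟨u, hu, rfl⟩ e he
  rw [sm e (h he).2] at this
  exact (Set.ext_iff.1 this (e u)).1 (Or.inl rfl)

theorem card_E0_le : Nat.card E0 ≤ 32 := by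
  classical
  let b : Fin 5 → ℕ := ![0, 14, 267, 100, 1]
  have hb : ∀ i, pt (b i) ∈ D30 := fun i => (mem_D30 (sc_lt _)).2 (by revert i; decide +kernel)
  have := Nat.card_le_card_of_injective (fun (g : E0) (i : Fin 5) => decide ((g : AV) (pt (b i)) = pt (b i)))
    fun g h e => by
      have k : ∀ i, ((h : AV)⁻¹ * g) (pt (b i)) = pt (b i) := fun i => by
        have e1 := decide_eq_decide.1 (congrFun e i)
        have : (g : AV) (pt (b i)) = (h : AV) (pt (b i)) := by
          by_cases e2 : (g : AV) (pt (b i)) = pt (b i)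
          · rw [e2, e1.1 e2]
          · rw [(g.2.2.2 _ (hb i)).resolve_left e2, (h.2.2.2 _ (hb i)).resolve_left fun e3 => e2 (e1.2 e3)]
        rw [AV.mul_apply, this, AV.inv_apply]
      have m := mul_mem (inv_mem h.2) g.2
      have k5 : ((h : AV)⁻¹ * g) (pt 5) = pt 5 := by
        have : pt 5 = pt (b 0) + vec 15 := by
          rw [pt_eq (i := 5) (x := 12) (by decide +kernel), pt_eq (i := b 0) (x := 3) (by decide +kernel)]; decide
        rw [this, map_add, k 0, m.2.1]
      have g6 : N1 ⊓ stabilizer AV (pt 0) ⊓ stabilizer AV (pt 5) ⊓ stabilizer AV (pt 14) ⊓ stabilizer AV (pt 267) ⊓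
          stabilizer AV (pt 100) ⊓ stabilizer AV (pt 1) = Kfix AV cfg pt := goodN4.2.2.2.2.2.2
      have : (h : AV)⁻¹ * g ∈ Kfix AV cfg pt := g6 ▸ ⟨⟨⟨⟨⟨⟨m.1, k 0⟩, k5⟩, k 1⟩, k 2⟩, k 3⟩, k 4⟩
      rw [Kbot, mem_bot, inv_mul_eq_one] at this
      exact Subtype.ext this.symm
  simpa using this

theorem pair_chk {g : AV} {M : ℕ} (m : Mat g M)
    (c : allLt (fun x => bimp (band (tb SM x) (tb SM (Nat.xor x 15))) (force (lin M x) fun y =>
      bor (Nat.beq y x) (Nat.beq y (Nat.xor x 15)))) 4096 = true) : ∀ u ∈ D30, g u = u ∨ g u = u + vec 15 := by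
  intro u hu
  obtain ⟨x, hx, rfl⟩ := exists_vec u
  simp only [force_eq, allLt_iff, band_eq_true, bimp_eq_true, bor_eq_true, Nat.beq_eq] at c
  rw [m, ← vec_xor]
  exact (c x hx ((mem_D30 hx).1 hu)).imp (congrArg vec) (congrArg vec)

theorem exists_outer : ∃ e ∈ E0, e ∈ H0 ∧ e ∉ K0 := by
  obtain ⟨e, he, m⟩ := exists_of_memb' goodH (M := cE0) (p := pE0) (by decide +kernel)
  exact ⟨e, ⟨H0_le_N1 he, (m.apply_eq_iff 15 (by norm_num)).2 (by decide +kernel),
    pair_chk m (by decide +kernel)⟩, he, fun h => not_mem_linV_of m (by decide +kernel) (K0_le_linV h)⟩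

theorem eq_H0 {R : Subgroup AV} (hK : K0 ≤ R) (hE : E0 ≤ R) (hc : Nat.card R = 19595520) : R = H0 := by
  obtain ⟨e, h1, h2, h3⟩ := exists_outer
  refine (eq_of_le_of_card_ge (fun g hg => ?_) (by rw [hc, card_H0])).symm
  by_cases h : g ∈ K0
  · exact hK h
  · exact (R.mul_mem_cancel_right (hE h1)).1 (hK (mul_mem_K0 hg h2 h h3))

/-! ### the stabiliser of `15` in `H0` -/

theorem card_S1701' : 1701 ≤ {v : V6 | v ≠ 0 ∧ qv v = 0 ∧ v ∉ S378}.ncard := by
  have hc : cntLt (fun x => band (bnot (Nat.beq x 0)) (band (Nat.beq (qC x) 0) (bnot (tb SM x)))) 4096 = 1701 := by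
    decide +kernel
  rw [cntLt_eq] at hc
  rw [← hc, ← Set.ncard_coe_finset]
  refine Set.ncard_le_ncard_of_injOn vec (fun x hx => ?_) (fun x hx y hy e => ?_)
  · simp only [Finset.coe_filter, Finset.mem_range, Set.mem_ofPred_eq, band_eq_true, bnot_eq_true,
      Nat.beq_eq] at hx
    refine ⟨fun e => ?_, (qv_vec_eq_zero _).2 hx.2.2.1, fun h => ?_⟩
    · rw [vec_inj hx.1 (by norm_num) (e.trans vec_zero.symm)] at hx
      exact Bool.noConfusion hx.2.1
    · rw [(mem_S378 hx.1).1 h] at hx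
      exact Bool.noConfusion hx.2.2.2
  · exact vec_inj (Finset.mem_range.1 (Finset.mem_filter.1 hx).1) (Finset.mem_range.1 (Finset.mem_filter.1 hy).1) e

/-- `2⁵.A₆` -/
def X0 : Subgroup AV := H0 ⊓ stabilizer AV (vec 15)

theorem goodX' : H54.Good cfg pt chX X0 ∧ grp AV cfg pt chX.gens = X0 := by
  refine good_of_card_le ctx Kbot (fun s hs => ?_) chX_low ?_
  · have c : allL (fun p => band (memb cfg chH p) (Nat.beq (lin (matOf p) 15) 15)) chX.gens = true := by
      decide +kernel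
    have := (allL_iff _ _).1 c s hs
    rw [band_eq_true, Nat.beq_eq] at this
    obtain ⟨g, hg, r, m⟩ := exists_of_memb goodH this.1
    exact ⟨g, ⟨hg, (m.apply_eq_iff 15 (by norm_num)).2 this.2⟩, r⟩
  · have h1 := card_mul_index (X0.subgroupOf H0)
    have h2 : 1701 ≤ X0.relIndex H0 := by
      rw [X0, relIndex_inf_stabilizer]
      refine card_S1701'.trans (Set.ncard_le_ncard fun v ⟨a, b, c⟩ => ?_)
      obtain ⟨k, hk, e⟩ := trans_S1701 a b c
      exact ⟨⟨k, K0_le_H0 hk⟩, e⟩
    rw [Nat.card_congr (subgroupOfEquivOfLe (H := X0) inf_le_left).toEquiv, card_H0] at h1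
    rw [chX_size]
    have := Nat.mul_le_mul_left (Nat.card X0) h2
    change Nat.card X0 * X0.relIndex H0 = _ at h1
    omega

theorem card_X0 : Nat.card X0 = 11520 := (goodX'.1.card ctx Kbot).trans chX_size

theorem exists_hom_A6 : ∃ φ : X0 →* alternatingGroup (Fin 6), Function.Surjective φ := by
  have X6 : Ctx cfg6 (finPt 6) := ctx_fin cfg6_check rfl
  have K6 := Kfix_fin (n := 6) (c := cfg6) rfl
  have hS : ∀ s ∈ ch6.gens, In cfg6 (finPt 6) (alternatingGroup (Fin 6)) s := by
    have : ∀ s ∈ ch6.gens, ∃ g ∈ [Equiv.swap (0 : Fin 6) 4 * Equiv.swap 1 5,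
        Equiv.swap 0 2 * (Equiv.swap 1 4 * Equiv.swap 1 3 * Equiv.swap 1 5)], Equiv.Perm.sign g = 1 ∧
        ∀ i < 6, cfg6.get s i < 6 ∧ g (finPt 6 i) = finPt 6 (cfg6.get s i) := by decide +kernel
    intro s hs
    obtain ⟨g, -, h⟩ := this s hs
    exact ⟨g, h.1, h.2⟩
  have e6 := good_of_card_le X6 K6 hS ch6_low (by rw [nat_card_alternatingGroup, ch6_size]; simp [Nat.factorial])
  obtain ⟨φ, h, -⟩ := exists_hom ctx X6 cfgG_check Kbot K6 (valid_of_in fun s hs => goodX'.2 ▸
    (valid_of_in (goodX'.1.all_in ctx (S := chX.gens) (by decide +kernel))).in_grp hs) (valid_of_in hS)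
    (by decide +kernel) chG_low chG_up goodX'.2 e6.2 (by rw [chG_size, card_X0])
  exact ⟨φ, h⟩

end H12.F24
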