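import Mathlib
import Cfsg.Agent.Lib.F24T.Iface
import Cfsg.Agent.Lib.Golay.Mathieu

/-!
# The subgroup `A = 2¹¹` of a group of large Fischer type as the even Golay cocode (interface)

`W0` is the isotropic plane spanned by the codes `3, 12, 48`, `a2 k` (`k < 16`) are the elements of
`A2 = C_{K0}(W0)`, `A = ⟨z, σ(W0), hat k⟩`.
-/

set_option autoImplicit false
set_option maxRecDepth 100000

namespace H12.F24

open Subgroup H54 H94 H95 Cfsg
open H30 (F4)
open scoped Pointwise symmDiff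

/-- the isotropic plane with six points in `S378` -/
def W0 : Set V6 := {v | v 0 = v 1 ∧ v 2 = v 3 ∧ v 4 = v 5}

def cA2T : ℕ := 0x4cf8cfd33e333bc37c3dc3eccc7ccbf32f318cf4cfd33e3337c3bc3ec3dccc7ccbf31f324cf8cfe33d3337c3bc3dc3ecccbcc7f31f328cf4cfe33d333bc37c3ec3dcccbcc7f32f3170fb0f1f32f3cbcc7c3d33e3cf4cf8f0ef0db0f70f1f32f3c7ccbc3e33d3cf4cf8f0df0e70fb0f2f31f3c7ccbc3d33e3cf8cf4f0df0eb0f70f2f31f3cbcc7c3e33d3cf8cf4f0ef0d7c0bc0dc0ec0f80f4001f02f03703b03e03dbc07c0dc0ec0f40f8002f01f03703b03d03e7c0bc0ec0dc0f40f8001f02f03b03703d03ebc07c0ec0dc0f80f4002f01f03b03703e03d400800100200080040010020004008002001800400100200040080020010004008001002400800200100040080010020008004001002800400200100080040020010008004002001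
/-- matrix of `a2 k` -/
def cA2 (k : ℕ) : ℕ := Nat.land (Nat.shiftRight cA2T (Nat.mul 144 (Nat.land k 15))) (2 ^ 144 - 1)
def pA4 : ℕ := 0xbfdfafb7cbddeaf366b2da2cf6fb9dcae370ba5a6db6cb5daadd76bade2ef640d078382210880461d0f86c2014090602e160c84c2a11a7d2e994da752886422212892482591c8a4690c7a3b208fc724f2491c9a4b222c960562a170c86230198bc582d9ccda6b389bcd27f3c9dcfa7b3a2090233158b45e311431988c26087c361d0b8642976ba5eaf186be60b097ec0542a54ea6522955caf56ab154ab68b41228f482351c8c75ba9d2e841a150c8443a09429f502753c9c6db69b2d849a552c944ba49e6f23a9dcf0763c9d0f67d3f1f0fe7a82c0a070080c120f0684c20d66a369b0e672381c4dc6f7c3e5eef67a3d5fcff7ebf1f4fb40a01c2df70375bcdc4da69329869b55acd46bb49e2ef783b5dcec45a29128871b95cce473b8946a262b1d90c664b1196cd673319eca5aad164b3582c56eb65cae0d2653319cd06489c4a23102e16cba5f2f16a67321a8d86e381c8d0763c1e8f87e3aa1d1a8b44a15028347a4d22371a269389e5028930a6542a958ae5295cba5b2c954be512998cc04c25138a45024aed82bf5eadd8ab961ad58ea756aad52a358a955ea1590783810090301c180d0502c0a010100c0800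
def pA8 : ℕ := 0xbfdfafb7cbddeaf25c2d8a4510eb55aed96d86c32e171b95ce16261297cbd648955eb016a9862aa150998e2161b1082ba22af87c3a61a7824100d06528542b2c4b0672e18cce51291ecfa3b3c8f9306f3891cda4a52a1110844320510974624c6e81412ac9a6b249b8d09f209dc7a7a3a950ba320a058180f140dd8c235987dd2df6eb4c2970b9361b5a2f2592ccde6e542a4f4c87dbe95caf3a339eaf461c11a4f077a351c9544a21168a43a71c8e541b85c4e06fa753c854ca61369a4ba31a8d549bc60abe65bd8ec7867ab58afc3e1f992a7799c0e2b1583416cb7351ae11095e2f502a28140d80bf7c3e5947755aa9fcff621f54aa439ad104a04fb75bce66cb61b6da6ba51d89669a45249047bb5dcd674ba1d6ea73a11b88671a856a723db194cc73fbf4eacc56334f2f751a0182c280c020d075d2ecd202008100664ad06aa010b3594bb78bb9688f471c9524e561acd07e4e90940773a968c256322c8b05b32984c45f2f288f27e3e26c70ae369c8e0a722a2922864a20c688a46a4526ed7513da2ce240bd503356a904aa21489988435e11d82b81cad87a22600783a994b8bc629d4d8ac580a66329a0ce00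

theorem cA2_mul : allLt (fun k => allLt (fun l => Nat.beq (mmul (cA2 k) (cA2 l)) (cA2 (Nat.xor k l))) 16) 16 = true := by
  decide +kernel

theorem cA2_land (k : ℕ) : cA2 (k &&& 15) = cA2 k := by
  show Nat.land (Nat.shiftRight cA2T (Nat.mul 144 (k &&& 15 &&& 15))) _ = _
  rw [Nat.and_assoc, Nat.and_self]; rfl

theorem cA2_mul' (k l : ℕ) : mmul (cA2 k) (cA2 l) = cA2 (k ^^^ l) := by
  have h := (allLt_iff _ _).1 ((allLt_iff _ _).1 cA2_mul (k &&& 15) (Nat.and_lt_two_pow (n := 4) _ (by norm_num)))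
    (l &&& 15) (Nat.and_lt_two_pow (n := 4) _ (by norm_num))
  rw [Nat.beq_eq, cA2_land, cA2_land] at h
  rw [h, ← cA2_land (k ^^^ l), Nat.and_xor_distrib_right]; rfl

theorem exists_a2 (k : ℕ) : ∃ g ∈ K0, Mat g (cA2 k) := by
  have hm : ∀ k l j, k ^^^ l = j → (∃ g ∈ K0, Mat g (cA2 k)) → (∃ g ∈ K0, Mat g (cA2 l)) →
      ∃ g ∈ K0, Mat g (cA2 j) := by
    rintro k l _ rfl ⟨g, hg, m⟩ ⟨h, hh, n⟩
    exact ⟨g * h, K0.mul_mem hg hh, by rw [← cA2_mul']; exact m.mul n⟩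
  have h1 : ∃ g ∈ K0, Mat g (cA2 1) := ⟨ta, gK_mem (by simp [gK]), by rw [← (by decide +kernel : cTa = cA2 1)]; exact mat_ta⟩
  have h2 : ∃ g ∈ K0, Mat g (cA2 2) := ⟨tc, gK_mem (by simp [gK]), by rw [← (by decide +kernel : cTc = cA2 2)]; exact mat_tc⟩
  have h4 : ∃ g ∈ K0, Mat g (cA2 4) := exists_of_memb' goodK (p := pA4) (by decide +kernel)
  have h8 : ∃ g ∈ K0, Mat g (cA2 8) := exists_of_memb' goodK (p := pA8) (by decide +kernel)
  have h3 := hm _ _ 3 (by decide) h1 h2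
  have h12 := hm _ _ 12 (by decide) h4 h8
  rw [← cA2_land]
  have hk : k &&& 15 < 16 := Nat.and_lt_two_pow (n := 4) _ (by norm_num)
  generalize k &&& 15 = j at hk
  interval_cases j
  · exact hm _ _ 0 (by decide) h1 h1
  · exact h1
  · exact h2
  · exact h3
  · exact h4
  · exact hm _ _ 5 (by decide) h1 h4
  · exact hm _ _ 6 (by decide) h2 h4
  · exact hm _ _ 7 (by decide) h3 h4
  · exact h8
  · exact hm _ _ 9 (by decide) h1 h8
  · exact hm _ _ 10 (by decide) h2 h8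
  · exact hm _ _ 11 (by decide) h3 h8
  · exact h12
  · exact hm _ _ 13 (by decide) h1 h12
  · exact hm _ _ 14 (by decide) h2 h12
  · exact hm _ _ 15 (by decide) h3 h12

/-- the elements of `A2 = C_{K0}(W0) = 2⁴` -/
noncomputable def a2 (k : ℕ) : AV := (exists_a2 k).choose

theorem a2_mem (k : ℕ) : a2 k ∈ K0 := (exists_a2 k).choose_spec.1
theorem mat_a2 (k : ℕ) : Mat (a2 k) (cA2 k) := (exists_a2 k).choose_spec.2
theorem a2_mul (k l : ℕ) : a2 k * a2 l = a2 (k ^^^ l) :=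
  ((mat_a2 k).mul (mat_a2 l)).unique (by rw [cA2_mul']; exact mat_a2 _)
theorem a2_zero : a2 0 = 1 := (mat_a2 0).eq_of_beq mat_one (by decide +kernel)
theorem a2_one : a2 1 = ta := (mat_a2 1).eq_of_beq mat_ta (by decide +kernel)
theorem a2_two : a2 2 = tc := (mat_a2 2).eq_of_beq mat_tc (by decide +kernel)

def disT : ℕ := 0x16681aa41cc2e00e6168a1a4c1c20e0e6618aa14cc1200ee9990555033300000
/-- `1` iff the duads `a2 k`, `a2 l` of the six points of `W0 ∩ S378` are disjoint -/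
def dis (k l : ℕ) : ℕ := Nat.land (Nat.shiftRight disT (Nat.add (Nat.mul 16 k) l)) 1

def ctT : ℕ := 0xef3c043c3030c3050c31e33f163300ef03020f316c3f0e0fc1ec0c1f0c302cc302cf31eff0040cf043cf16fcc0f0c3170c3010c3000c000003
/-- the pair `{i, ∞}` is `σ w · z^ε · hat k` with `ct i = w + 4096 ε + 8192 k` -/
def ct (i : ℕ) : ℕ := Nat.land (Nat.shiftRight ctT (Nat.mul 20 i)) 1048575

variable {G : Type*} [Group G]

/-- the cocode subgroup and its normaliser -/
structure Coc {z : G} (F : Frame z) where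
  A : Subgroup G
  /-- the lift of `a2 k` that commutes with `x` and is not conjugate to `z` -/
  hat : ℕ → G
  hat_zero : hat 0 = 1
  hat_lift : ∀ k < 16, F.Lift (hat k) (a2 k)
  hat_x : ∀ k < 16, hat k * F.x = F.x * hat k
  hat_mul : ∀ k < 16, ∀ l < 16, hat k * hat l = hat (k ^^^ l) * zp z (dis k l)
  mem_A : ∀ g, g ∈ A ↔ ∃ w ∈ W0, ∃ ε, ∃ k < 16, g = F.σ w * zp z ε * hat k
  /-- the element of the cocode (`γ {∞} = 1`, so only even sets matter) -/
  γ : Finset GolayPt → G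
  γ_add : ∀ S T, γ (S ∆ T) = γ S * γ T
  γ_inf : γ {none} = 1
  γ_pt : ∀ i < 24, γ {H15.pt i} = F.σ (vec (ct i % 4096)) * zp z ((ct i / 4096 % 2 : ℕ) : ZMod 2) * hat (ct i / 8192)
  γ_range : ∀ g, g ∈ A ↔ ∃ S, Even S.card ∧ γ S = g
  γ_ker : ∀ S, Even S.card → (γ S = 1 ↔ S ∈ H15.CodeSets)
  z_eq : γ {none, some 0, some 1, some 2} = z
  t_eq : γ {none, some 0} = F.σ (vec 3)
  a_eq : γ {none, some 1} = F.σ (vec 192)
  θ : normalizer (A : Set G) →* Equiv.Perm GolayPt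
  θ_range : θ.range = M24
  θ_ker : ∀ m, θ m = 1 ↔ (m : G) ∈ A
  θ_conj : ∀ (m : normalizer (A : Set G)) S, Even S.card → m * γ S * (m : G)⁻¹ = γ (θ m • S)
  /-- the 276 pairs are the elements of `A#` that are not conjugate to `z` -/
  cls_A : ∀ y ∈ A, y ≠ 1 → (¬ IsConj z y ↔ ∃ i j, i ≠ j ∧ y = γ {i, j})
  /-- `A` is the only elementary abelian subgroup of order `≥ 2¹¹` of any 2-subgroup containing it -/
  J_eq : ∀ P B : Subgroup G, IsPGroup 2 P → A ≤ P → B ≤ P → (∀ b ∈ B, b * b = 1) → 2 ^ 11 ≤ Nat.card B → B = A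
  /-- a Sylow 2-subgroup of `G` between `A` and `C(z) ∩ N(A)` -/
  syl : ∃ T : Sylow 2 G, A ≤ T ∧ (T : Subgroup G) ≤ centralizer ({z} : Set G) ⊓ normalizer (A : Set G) ∧
    Nat.card T = 2 ^ 21
  norm : ∀ c g, F.Lift c g → (∀ v ∈ W0, g v ∈ W0) → c ∈ normalizer (A : Set G)
  /-- every involution of `K0` is conjugate to `ta = a2 1` -/
  inv_K0 : ∀ b ∈ K0, b ≠ 1 → b * b = 1 → ∃ k ∈ K0, k * b * k⁻¹ = a2 1
  /-- the involutions over `a2 k` are conjugate into `A` by elements centralising `a2 k` -/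
  inv_A : ∀ k < 16, ∀ y, F.Lift y (a2 k) → k ≠ 0 → y * y = 1 →
    ∃ c g, F.Lift c g ∧ g * a2 k = a2 k * g ∧ c * y * c⁻¹ ∈ A
  /-- those that are not conjugate to `z` are conjugate to `hat k` in `Q` -/
  inv_T : ∀ k < 16, ∀ y, F.Lift y (a2 k) → k ≠ 0 → y * y = 1 →
    (¬ IsConj z y ↔ ∃ u, y = F.σ u * hat k * (F.σ u)⁻¹)

end H12.F24
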