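import Mathlib
import Cfsg.Agent.Lib.F24T.B1A

/-!
# The conjugates of `z` in `A`, the canonical lifts and their multiplication table
-/

set_option autoImplicit false
set_option maxRecDepth 100000

namespace H94.B1

open Subgroup H12.F24 H54 H95 H12.F24.PreFrame
open H30 (F4)

def tyT : ℕ := 0x4150414510441051211021053400341540144115001410012054215530543445304434552044214500041011400441053410340521002115105410414140415510050010411140103441305021512050105510404141415434113404210121142005201030053010404540500045005020552154305534444015411400151000404440510044005120042011300430114100400110140001214020413450304134403051215020511004001141104011301430012014200100540041405440410005101040054104304534542045214400550040405540403015300020152000211121043401341441514144104510502141204034513040410140001015000024551401340445142440141434114501401530410001201041013011101420401011204541043014000420154010304434514405240004113444441024150404201400053045401120441010301541054510340014052451450534151410244414152441450034101400245445153405305540012004001530054115205410002410040134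414415240504143454440041143004100120554000305400142005001120004005305110042050411130013414450424451411340145112450140420511005300041102001001030504004441134450405241444043450041024010415240444013455040024114414344030104100204110153040401420110000350140403514405511102040110520551014214400012101340541443001410130114111341541540011211110042154111520451100205035044045351140502110001021551005411030104155341440143114400131012014011420010101204111112054110440413500405435154115301541503411211500152150100031104010310540050110201001052005001421141001215130144114341041513400414130044104101121410004210401152015010020003115401531004000214010102105000541403401410530054044350540513510204411142051110120110111200401044011311140043104414534044100300021451015210000000044401030052051204430104005005120143114405510010014411430552444411100112441305031112011100440503141240410544154414110412411315430442455000541054044101020053105414010402410315531402405105541552400314541501050104541453150241500154115305424452015311540541000104441443151241424013144415110512451304041010001101440403101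200140451011200431043045245400044104301520410054400040150041205430003110201010054051411000102440305140140040205530013014204000554001204530114004005000454011300420501015404131002000245030414100000044144401204520501050104531053110404444452111201400141001305131541011000431443041445540542004210110551040310031154411440420402055305531500010100521152010404044413101311410541041204120544410440521542141400140143014300100510044211020154045444430503155001510004000401521552140005000453015300044504051200121041014000131413044001110043054315140414440211420110055004030103005400540102150214531453040101000052005210044544055301130040054004121512144400440112044205144154400310431111051104420002105445140503140304510150000310544111404205131104404141120441014244135154001000124103405405024150004405534002444101140043510444530102005041444503005201004013401405400052414351140051010244514152040311444001400205531014415205014054410310420451410440531114044341124040015401535012455100030004455040420153015444004112000001424053410404510012454350040142451100440113505240000114040341544013115204114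144414310020541401350440101005245034144041001024010415200430114444040020113004445120140405445430012001041044413014400035142440101540513404241100003155110131401114411025144105250120154041240140050001300410143040301400113050100440512005401524112504410025114115111131451104315010053051001030152410401420044050414521114150210431000105311501101115314111003154250041042515411140552001401124153010001530541000310401013111011441412115415421002414401020004054100130550014301130451011300100044000240440442010210541512110414401113114010431010005300010103044201140452405400141142510410125053151110531441110011531100100310521014155211441404004240040402014304110153005000000502100305440554040304121150045301044450014201521511001400431544001315121541004001120103015444020411040441131153100440410552054200400054454300131454015101021404410311420401041105420553101440531044400105120502045104444153111001520143011444440053155215010001050205131054401441431102044104531414011101421442000000144503005445530002005000410112141314440142110004040453044305140500055210521551005400031503014444100102011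404430452111004100542104305040513055405400512101211400444041304010152145314040104451300420010000010411014405410041044401110501001044104145454540454445411045104021502155314531403150315521452140200420153005301430043015200520142104211531113100310431152111210020502055305130543050305520512054114411414145414044444441014501400004100140054500400445010005100011040101410544004404410101051100004400414045404040444041004500402144214131513154314431412151215420102001301130003010300120112000211021013105311431103101210521142044204130453040304430412045204001440141444544404144414111451140100400014505400045044001100500000041210120511051105020502100004030444041405430513055405040453040344144444451345434554450444534401441244125110451145024502500044014012541255114111410255025401400340144014411341134154415440534053004400440143014301540154005300500012001201100111010215021401000104120412111005100502110204010403041404440513054305040554040304534444441445434513450445544403445044125012451145104502510244014400401240124110411041024102400040034044404441434143410441044003400300140014011301130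104010400030001001214121511011001020102000000000413401104430443045104534000040405020414055204420544045205140401101354111043544354511053540110041012101411521152105410521114111414121504155214421454154215141401141314111443144350501453500014040102010401520152014401420114011000130011004344430050005344010001041304100443404340500453040104040412050404420552045405420404051010131010104310431050105310001004110211041042104211441142100410041502141414421552154414521404151014135010144350431451145314011404001200140042004200540052000400010013441000430043445100530000000315021412144315521503141314421554045104100444500004545014044104041050101110444400105410144441100301020142011301520103014301120154405014101444400114541414144114030452054204430552045305430442055310521012111311521053101311121154545100110044540100545414544100031452154215131402145315431512140450500411044404010454041450400404445110101044100110544414104010030052001200430002005300130042000414511411144414001454401440401403050204120513040205030413051204031102114210431002110311431042100400500010004400000054001400400003111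240131152405310124113105241540441514404015104054150440501500301125013014250430012511300425144144141441000410415414044110040035112001351520053500201035042014444411144440111044140104441001003411210134142104340021103405211545441014450000104514000445501000311024003114240431002410310424144004051440000510401405044010050030102500301525053000251030052515410404144140141041140404415014003510200035142004350120113505201544040114440001104454110444501100341021003415210534012111340421144504001445401010455410044510000041554154415141503155315431513150411541044111410031153104311131004055405440414040305530543041304040154004400140103015300430013010254525442541254011451144114111402505210425012100110501041101010024452444204120401045104400410040240520042001240010050004000110004145414441414140314531443141314041054114410141103105311431013110404540444051405030453044305130504005401440114000300530143011300021452144214121400145014401410140210525042101250001051104010111002045204424412440004500441041104020052404240120000005100410010000445544543455345444454444344534444415441034153410440544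0034053400255125501451145025412540144114402511241014110410250124001401040040554054305530544041404030413040401540103015301040014004300130042151215010511050204120400041004021112010101100102001210000011000445144503451345044414440344134404411441434113414440144043401340424512450045104502441244004410440241125100411141024012500040114004051405030513050404540443045304440114014301130144005400030053000205120500051005021412140104110402011211000111010210120001001000070006000600060006000600060007000600060007000600070006000600060006000700060006000700060006000600060006000600070006000600060007000600070007000600060006000600060006000600060006000600070006000700060006000600060006000600070007000700060006000700060007000700060007000600060006000600060006000700060006000700060007000600060006000600070006000600070006000600060006000600060007000600060006000700060007000700060006000600060006000600060006000600060007000600070006000600060006000600060007000700070006000600070006000700070005000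

def mk (w e k : ℕ) : ℕ := Nat.add (Nat.add w (Nat.mul 4096 (Nat.mod e 2))) (Nat.mul 8192 k)

/-- conjugation by `σ u` on codes -/
noncomputable def cjQ (u c : ℕ) : ℕ :=
  force (Nat.mod c 4096) fun w => force (lin (cA2 (Nat.div c 8192)) u) fun a =>
    mk (Nat.xor (Nat.xor u w) a)
      (Nat.add (Nat.add (Nat.add (βC (Nat.xor u w) a) (βC u w)) (Nat.div c 4096)) (qC u)) (Nat.div c 8192)

noncomputable def base (t k : ℕ) : ℕ :=
  sel (Nat.ble t 1) (mk 0 t k) (force (lin (cG k) 12) fun w =>
    mk (sel (Nat.beq t 2) w (sel (Nat.beq t 3) (lin cOm w) (lin cOm (lin cOm w)))) 0 k)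

/-- `0, 1`: classes of the two lifts, `2, 3, 4`: the other elements outside `Q`, `5`: the identity,
`6`, `7`: the elements of `Q` conjugate (not conjugate) to `z` -/
def ty (j : ℕ) : ℕ := Nat.div (fld tyT 16 j) 4096
def tu (j : ℕ) : ℕ := Nat.mod (fld tyT 16 j) 4096

theorem ty_chk : allLt (fun j => force (cd j) fun c => force (ty j) fun t => force (Nat.mod c 4096) fun w =>
    sel (Nat.ble j 127)
      (bor (band (Nat.beq t 5) (Nat.beq j 0)) (bor (band (Nat.beq t 7) (tb SM w))
        (band (Nat.beq t 6) (bor (Nat.beq j 64) (band (bnot (Nat.beq w 0)) (bnot (tb SM w)))))))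
      (band (Nat.ble t 4) (Nat.beq (cjQ (tu j) (base t (Nat.div j 128))) c))) 2048 = true := by
  decide +kernel

noncomputable def RR (b0 b1 b2 : Bool) (t : ℕ) : Bool :=
  sel (Nat.beq t 0) b0 (sel (Nat.beq t 1) b1 (sel (Nat.ble t 4) b2 (Nat.beq t 6)))

theorem cnt_chk : ∀ b0 b1 b2 : Bool, cntLt (fun j => force (ty j) (RR b0 b1 b2)) 2048 =
    91 + 240 * b0.toNat + 240 * b1.toNat + 1440 * b2.toNat := by decide +kernel

noncomputable def dd (α β k l : ℕ) : ℕ :=
  sel (bor (bor (Nat.beq k 0) (Nat.beq l 0)) (Nat.beq k l)) 0 (sel (Nat.beq (dis k l) 1) β α)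

/-- the product on codes -/
noncomputable def amul (α β c d : ℕ) : ℕ :=
  force c fun c => force d fun d => force (Nat.div c 8192) fun k => force (Nat.div d 8192) fun l =>
    mk (Nat.xor (Nat.mod c 4096) (Nat.mod d 4096))
      (Nat.add (Nat.add (Nat.div c 4096) (Nat.div d 4096)) (dd α β k l)) (Nat.xor k l)

def ji (c : ℕ) : ℕ := Nat.add (wi (Nat.mod c 4096)) (Nat.mul 64 (Nat.div c 4096))

noncomputable def nz (c : ℕ) : Bool := force c fun c => force (ty (ji c)) fun t => bor (Nat.beq t 0) (Nat.beq t 7)

noncomputable def valC (α β c : ℕ) : ℕ :=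
  cntLt (fun j => force (cd j) fun d => band (nz d) (nz (amul α β c d))) 2048

theorem val_chk : ∀ α < 2, ∀ β < 2, ∀ c ∈ [3, 192, 4291], valC α β c = valC α β 8192 → α = 0 ∧ β = 1 := by
  decide +kernel

theorem dd_chk : ∀ k < 16, ∀ l < 16, dd 0 1 k l = dis k l := by decide +kernel

/-- a valid code -/
def Ok (c : ℕ) : Prop := inW (c % 4096) = true ∧ c / 8192 < 16

theorem mk_spec {w : ℕ} (hw : w < 4096) (e k : ℕ) :
    mk w e k % 4096 = w ∧ mk w e k / 4096 % 2 = e % 2 ∧ mk w e k / 8192 = k := by
  change (w + 4096 * (e % 2) + 8192 * k) % 4096 = _ ∧ (w + 4096 * (e % 2) + 8192 * k) / 4096 % 2 = _ ∧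
    (w + 4096 * (e % 2) + 8192 * k) / 8192 = _
  omega

theorem xor_lt {a b : ℕ} (ha : a < 4096) (hb : b < 4096) : Nat.xor a b < 4096 :=
  Nat.xor_lt_two_pow (n := 12) ha hb

theorem mod_lt (c : ℕ) : c % 4096 < 4096 := Nat.mod_lt _ (by norm_num)

theorem Ok.mem {c : ℕ} (h : Ok c) : vec (c % 4096) ∈ W0 := (mem_W0 (mod_lt c)).2 h.1

theorem ok_cd {j : ℕ} (hj : j < 2048) : Ok (cd j) := by
  obtain ⟨a1, -, a3⟩ := cd_spec j
  exact ⟨a1 ▸ inW_wc (Nat.mod_lt _ (by norm_num)), by omega⟩

theorem Ok.ji {c : ℕ} (h : Ok c) : ji c < 2048 ∧ cd (ji c) = c := by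
  have h1 := wi_lt (mod_lt c)
  have h2 := wc_wi (mod_lt c) h.1
  have h3 := h.2
  have e : B1.ji c = wi (c % 4096) + 64 * (c / 4096) := rfl
  refine ⟨by omega, ?_⟩
  change wc (B1.ji c % 64) + 4096 * (B1.ji c / 64) = c
  rw [show B1.ji c % 64 = wi (c % 4096) by omega, h2]
  omega

theorem ji_cd (j : ℕ) : ji (cd j) = j := by
  have := wc_lt (j % 64)
  change wi (cd j % 4096) + 64 * ((wc (j % 64) + 4096 * (j / 64)) / 4096) = j
  rw [(cd_spec j).1, wi_wc (Nat.mod_lt _ (by norm_num))]
  omega

theorem amul_eq (α β c d : ℕ) : amul α β c d = mk (Nat.xor (c % 4096) (d % 4096))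
    (c / 4096 + d / 4096 + dd α β (c / 8192) (d / 8192)) ((c / 8192) ^^^ (d / 8192)) := by
  rw [amul, fe, fe, fe, fe]; rfl

theorem Ok.amul {c d : ℕ} (hc : Ok c) (hd : Ok d) (α β : ℕ) : Ok (amul α β c d) := by
  obtain ⟨a1, -, a3⟩ := mk_spec (xor_lt (mod_lt c) (mod_lt d))
    (c / 4096 + d / 4096 + dd α β (c / 8192) (d / 8192)) ((c / 8192) ^^^ (d / 8192))
  rw [amul_eq]
  refine ⟨?_, by rw [a3]; exact xor_lt16 hc.2 hd.2⟩
  rw [a1, ← mem_W0 (xor_lt (mod_lt c) (mod_lt d)), vec_xor]
  exact W0_add hc.mem hd.mem

variable {G : Type*} [Group G] {z : G} {F : Frame z}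

theorem el_mk (l : ℕ → G) {w : ℕ} (hw : w < 4096) (e k : ℕ) :
    el F l (mk w e k) = F.σ (vec w) * zp z (e : ZMod 2) * l k := by
  obtain ⟨a1, a2, a3⟩ := mk_spec hw e k
  rw [el, a1, a2, a3, ZMod.natCast_mod]

theorem XL.conjQ {y : G} {k : ℕ} (h : XL F y k) (u w : V6) (ε : ZMod 2) :
    F.σ u * (F.σ w * zp z ε * y) * (F.σ u)⁻¹ =
      F.σ (u + w + a2 k u) * zp z (βv (u + w) (a2 k u) + βv u w + ε + qv u) * y := by
  have e1 : y * (F.σ u)⁻¹ = F.σ (a2 k u) * zp z (qv u) * y := by
    rw [← N1_le_isoQ (K0_le_N1 (a2_mem k)) u, ← F.σ_inv, ← h.σ_conj]; group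
  have e2 := F.elt_mul u w 0 ε
  rw [zp_zero, mul_one, add_zero] at e2
  rw [← mul_assoc, e2, mul_assoc, e1, ← mul_assoc, F.elt_mul, add_assoc (βv (u + w) _) (βv u w)]

theorem el_cjQ {l : ℕ → G} (hl : ∀ k < 16, XL F (l k) k) {u c : ℕ} (hu : u < 4096) (hc : c / 8192 < 16) :
    el F l (cjQ u c) = F.σ (vec u) * el F l c * (F.σ (vec u))⁻¹ := by
  have e : cjQ u c = mk (Nat.xor (Nat.xor u (c % 4096)) (lin (cA2 (c / 8192)) u))
      (βC (Nat.xor u (c % 4096)) (lin (cA2 (c / 8192)) u) + βC u (c % 4096) + c / 4096 + qC u) (c / 8192) := by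
    rw [cjQ, fe, fe]; rfl
  rw [e, el_mk _ (xor_lt (xor_lt hu (mod_lt c)) (lin_lt _ _)), el, (hl _ hc).conjQ, vec_xor, vec_xor,
    ← mat_a2, ZMod.natCast_mod]
  simp only [Nat.cast_add, ← βv_vec, ← qv_vec, vec_xor, ← mat_a2 _ u]

variable (F) in
/-- a lift of `gk k` -/
noncomputable def nk (k : ℕ) : G := Classical.epsilon fun n => F.Lift n (gk k) ∧ n * F.x = F.x * n

theorem nk_spec {k : ℕ} (hk : k < 16) : F.Lift (nk F k) (gk k) ∧ nk F k * F.x = F.x * nk F k :=
  Classical.epsilon_spec (F.lift_K0 (gk_spec hk).1.1)

theorem nk_norm [Finite G] {k : ℕ} (hk : k < 16) : nk F k ∈ normalizer (A F : Set G) :=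
  norm (nk_spec hk).1 (gk_spec hk).1.2.2

variable (F) in
/-- the lifts obtained from a lift `h` of `a2 1` -/
noncomputable def lk (h : G) (k : ℕ) : G := if k = 0 then 1 else nk F k * h * (nk F k)⁻¹

variable {h : G}

theorem lk_zero : lk F h 0 = 1 := if_pos rfl
theorem lk_ne {k : ℕ} (h0 : k ≠ 0) : lk F h k = nk F k * h * (nk F k)⁻¹ := if_neg h0

theorem lk_XL (hh : XL F h 1) : ∀ k < 16, XL F (lk F h k) k := fun k hk => by
  by_cases h0 : k = 0
  · rw [h0, lk_zero]; exact XL_one
  · rw [lk_ne h0]; exact hh.conj (nk_spec hk).1 (nk_spec hk).2 (gk_conj hk h0)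

theorem isConj_iff_of {a b : G} (h : IsConj a b) : IsConj z a ↔ IsConj z b :=
  ⟨fun e => e.trans h, fun e => e.trans h.symm⟩

theorem ty_big (hh : XL F h 1) {j : ℕ} (hj : j < 2048) (h0 : 128 ≤ j) : ty j ≤ 4 ∧ el F (lk F h) (cd j) =
    F.σ (vec (tu j)) * el F (lk F h) (base (ty j) (j / 128)) * (F.σ (vec (tu j)))⁻¹ := by
  have e := (allLt_iff _ _).1 ty_chk j hj
  rw [fe, fe, fe, sel_eq, if_neg (by rw [Nat.ble_eq]; omega), band_eq_true, Nat.ble_eq, Nat.beq_eq] at e
  refine ⟨e.1, ?_⟩
  rw [← e.2]
  refine el_cjQ (lk_XL hh) (mod_lt _) ?_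
  have : ∀ w < 4096, ∀ e, mk w e (j / 128) / 8192 < 16 := fun w hw e => by rw [(mk_spec hw _ _).2.2]; omega
  rw [base, fe, sel_eq, sel_eq, sel_eq]
  split_ifs
  exacts [this _ (by norm_num) _, this _ (lin_lt _ _) _, this _ (lin_lt _ _) _, this _ (lin_lt _ _) _]

theorem el_base0 (k : ℕ) : el F (lk F h) (base 0 k) = lk F h k := by
  rw [show base 0 k = mk 0 0 k from rfl, el_mk _ (by norm_num), vec_zero, F.σ_zero, Nat.cast_zero, zp_zero, one_mul,
    one_mul]

open Classical in
theorem cls_el (hh : XL F h 1) {j : ℕ} (hj : j < 2048) : IsConj z (el F (lk F h) (cd j)) ↔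
    RR (decide (IsConj z h)) (decide (IsConj z (h * z))) (decide (IsConj z (F.σ (vec 12) * h))) (ty j) = true := by
  by_cases h0 : j ≤ 127
  · have e := (allLt_iff _ _).1 ty_chk j hj
    rw [fe, fe, fe, sel_eq, if_pos (by rw [Nat.ble_eq]; exact h0)] at e
    simp only [bor_eq_true, band_eq_true, Nat.beq_eq, H12.F24.bnot_eq_true] at e
    have hw := (ok_cd hj).mem
    rw [el, show cd j / 8192 = 0 by rw [(cd_spec j).2.2]; omega, lk_zero, mul_one]
    have key : cd j % 4096 ≠ 0 → (IsConj z (F.σ (vec (cd j % 4096)) * zp z ((cd j / 4096 % 2 : ℕ) : ZMod 2)) ↔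
        ¬ tb SM (cd j % 4096) = true) := fun hn => by
      have hv : vec (cd j % 4096) ≠ 0 := fun e => hn (vec_inj (mod_lt _) (by norm_num) (e.trans vec_zero.symm))
      rw [← isConj_iff_of (F.isConj_elt hv _), F.cls _ hv (W0_β hw hw), mem_S378 (mod_lt _)]
    rcases e with ⟨e, rfl⟩ | ⟨e, e'⟩ | ⟨e, rfl | ⟨e1, e2⟩⟩ <;> rw [e]
    · rw [show cd 0 = 0 by decide +kernel]
      exact iff_of_false (by simp [vec_zero, F.σ_zero, zp_zero, F.z1]) Bool.false_ne_true
    · have e'' : tb SM (cd j % 4096) = true := e'
      rw [key fun e0 => by rw [e0] at e''; exact absurd e'' (by decide +kernel)]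
      exact iff_of_false (not_not.2 e'') Bool.false_ne_true
    · rw [show cd 64 = 4096 by decide +kernel]
      exact iff_of_true (by simpa [vec_zero, F.σ_zero, zp_one] using ⟨1, by simp⟩) rfl
    · have e'' : tb SM (cd j % 4096) = false := e2
      rw [key (Nat.ne_of_beq_eq_false e1), e'']
      exact iff_of_true Bool.false_ne_true rfl
  · obtain ⟨h4, e⟩ := ty_big hh hj (by omega)
    have hk : j / 128 < 16 := by omega
    have hk0 : j / 128 ≠ 0 := by omega
    have hn := nk_spec (F := F) hk
    rw [e, ← isConj_iff_of (isConj_iff.2 ⟨_, rfl⟩)]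
    generalize j / 128 = k at hk hk0 hn
    have e2 : F.σ (vec (lin (cG k) 12)) * lk F h k = nk F k * (F.σ (vec 12) * h) * (nk F k)⁻¹ := by
      rw [← (gk_spec hk).2, ← hn.1.conj_lin hn.2, lk_ne hk0]; group
    have ex : ∀ w, F.σ (vec (lin cOm w)) * lk F h k = F.x * (F.σ (vec w) * lk F h k) * F.x⁻¹ := fun w => by
      rw [← mat_om, om_apply, ← F.x_conj, mul_assoc _ F.x⁻¹, (Commute.inv_left (lk_XL hh k hk).2.symm).eq]; group
    generalize ty j = t at h4
    interval_cases t
    · rw [el_base0, lk_ne hk0, ← isConj_iff_of (isConj_iff.2 ⟨_, rfl⟩)]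
      exact decide_eq_true_iff.symm
    · rw [show base 1 k = mk 0 1 k from rfl, el_mk _ (by norm_num), vec_zero, F.σ_zero, one_mul,
        ← (lk_XL hh k hk).1.zp_comm, lk_ne hk0, ← hn.1.conj_mul_zp, ← isConj_iff_of (isConj_iff.2 ⟨_, rfl⟩),
        Nat.cast_one, zp_one]
      exact decide_eq_true_iff.symm
    · rw [base, fe, show Nat.ble 2 1 = false from rfl, show Nat.beq 2 2 = true from rfl, sel_false, sel_true,
        el_mk _ (lin_lt _ _), Nat.cast_zero, zp_zero, mul_one, e2, ← isConj_iff_of (isConj_iff.2 ⟨_, rfl⟩)]
      exact decide_eq_true_iff.symm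
    · rw [base, fe, show Nat.ble 3 1 = false from rfl, show Nat.beq 3 2 = false from rfl,
        show Nat.beq 3 3 = true from rfl, sel_false, sel_false, sel_true,
        el_mk _ (lin_lt _ _), Nat.cast_zero, zp_zero, mul_one, ex, ← isConj_iff_of (isConj_iff.2 ⟨_, rfl⟩), e2,
        ← isConj_iff_of (isConj_iff.2 ⟨_, rfl⟩)]
      exact decide_eq_true_iff.symm
    · rw [base, fe, show Nat.ble 4 1 = false from rfl, show Nat.beq 4 2 = false from rfl,
        show Nat.beq 4 3 = false from rfl, sel_false, sel_false, sel_false,
        el_mk _ (lin_lt _ _), Nat.cast_zero, zp_zero, mul_one, ex, ← isConj_iff_of (isConj_iff.2 ⟨_, rfl⟩), ex,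
        ← isConj_iff_of (isConj_iff.2 ⟨_, rfl⟩), e2, ← isConj_iff_of (isConj_iff.2 ⟨_, rfl⟩)]
      exact decide_eq_true_iff.symm

theorem relIndex_eq [Finite G] : (centralizer ({z} : Set G)).relIndex (normalizer (A F : Set G)) =
    {y | y ∈ A F ∧ IsConj z y}.ncard := by
  rw [relIndex_cent]
  congr 1
  ext y
  exact ⟨by rintro ⟨m, hm, rfl⟩; exact ⟨conj_mem_of_normalizer hm z_mem_A, isConj_iff.2 ⟨m, rfl⟩⟩,
    fun ⟨h1, h2⟩ => fusion' z_mem_A h1 h2⟩

theorem xor_cls [Finite G] (hh : XL F h 1) : (IsConj z h ↔ ¬ IsConj z (h * z)) ∧ IsConj z (F.σ (vec 12) * h) ∧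
    (centralizer ({z} : Set G)).relIndex (normalizer (A F : Set G)) = 1771 := by
  classical
  have e := relIndex_eq.trans (ncard_A (lk_XL hh) (f := fun j => force (ty j) (RR (decide (IsConj z h))
    (decide (IsConj z (h * z))) (decide (IsConj z (F.σ (vec 12) * h))))) fun j hj => by rw [fe]; exact cls_el hh hj)
  rw [cnt_chk] at e
  have d := relIndex_cent_dvd_aut (z_mem_A (F := F))
  rw [e] at d ⊢
  have key : ∀ p, p.Prime → (∀ j < 11, 2 ^ 11 % p ≠ 2 ^ j % p) → ¬ p ∣ Nat.card (MulAut (A F)) := fun p hp h hd => by
    obtain ⟨j, hj, e⟩ := prime_dvd_aut card_A hp hd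
    exact h j hj e
  by_cases h0 : IsConj z h <;> by_cases h1 : IsConj z (h * z) <;> by_cases h2 : IsConj z (F.σ (vec 12) * h) <;>
    simp only [h0, h1, h2, decide_true, decide_false, Bool.toNat_true, Bool.toNat_false] at d ⊢
  · exact absurd d (key 2011 (by norm_num) (by decide))
  · exact absurd d (key 571 (by norm_num) (by decide))
  · simp
  · exact absurd d (key 331 (by norm_num) (by decide))
  · simp
  · exact absurd d (key 331 (by norm_num) (by decide))
  · exact absurd d (key 1531 (by norm_num) (by decide))
  · exact absurd (Dvd.dvd.trans (by norm_num) d) (key 13 (by norm_num) (by decide))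

/-- `h` is the lift of `a2 1` that commutes with `x` and is not conjugate to `z` -/
def Hat (F : Frame z) (h : G) : Prop := XL F h 1 ∧ ¬ IsConj z h

theorem exists_hat [Finite G] (F : Frame z) : ∃ h, Hat F h := by
  obtain ⟨a, ha⟩ := exists_XL F 1
  by_cases h : IsConj z a
  · exact ⟨a * z, by simpa only [zp_one] using ha.mul_zp 1, (xor_cls ha).1.1 h⟩
  · exact ⟨a, ha, h⟩

namespace Hat

theorem xl (hh : Hat F h) : ∀ k < 16, XL F (lk F h k) k := lk_XL hh.1

theorem conj_z [Finite G] (hh : Hat F h) : IsConj z (h * z) := by
  by_contra hn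
  exact hh.2 ((xor_cls hh.1).1.2 hn)

theorem not_conj (hh : Hat F h) {k : ℕ} (h0 : k ≠ 0) : ¬ IsConj z (lk F h k) := by
  rw [lk_ne h0, ← isConj_iff_of (isConj_iff.2 ⟨_, rfl⟩)]; exact hh.2

theorem eq_lk [Finite G] (hh : Hat F h) {k : ℕ} (hk : k < 16) (h0 : k ≠ 0) {y : G} (hy : XL F y k)
    (hn : ¬ IsConj z y) : y = lk F h k := by
  obtain ⟨ε, rfl⟩ := (hh.xl k hk).eq hy
  rcases zmod2_cases ε with rfl | rfl
  · rw [zp_zero, mul_one]
  · rw [lk_ne h0, ← (nk_spec hk).1.conj_mul_zp, ← isConj_iff_of (isConj_iff.2 ⟨_, rfl⟩), zp_one] at hn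
    exact absurd hh.conj_z hn

theorem conj_lk [Finite G] (hh : Hat F h) {n : G} {g : AV} (hn : F.Lift n g) (hx : n * F.x = F.x * n) {k l : ℕ}
    (hk : k < 16) (hl : l < 16) (e : g * a2 k * g⁻¹ = a2 l) : n * lk F h k * n⁻¹ = lk F h l := by
  by_cases h0 : k = 0
  · subst h0
    rw [a2_zero, mul_one, mul_inv_cancel, ← a2_zero] at e
    rw [← a2_inj (by norm_num) hl e, lk_zero, mul_one, mul_inv_cancel]
  · refine hh.eq_lk hl (fun e0 => h0 (a2_inj hk (by norm_num) ?_)) ((hh.xl k hk).conj hn hx e) ?_
    · rw [e0, a2_zero] at e
      rw [a2_zero]; simpa using e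
    · rw [← isConj_iff_of (isConj_iff.2 ⟨_, rfl⟩)]; exact hh.not_conj h0

theorem cls [Finite G] (hh : Hat F h) {c : ℕ} (hc : Ok c) :
    (el F (lk F h) c ≠ 1 ∧ ¬ IsConj z (el F (lk F h) c)) ↔ nz c = true := by
  obtain ⟨hj, e⟩ := hc.ji
  have h1 := cls_el hh.1 hj
  simp only [hh.2, hh.conj_z, (xor_cls hh.1).2.1, decide_true, decide_false] at h1
  have h2 : el F (lk F h) (cd (ji c)) = 1 ↔ ji c = 0 := by
    have : el F (lk F h) (cd 0) = 1 := by
      rw [show cd 0 = base 0 0 by decide +kernel, el_base0, lk_zero]
    exact ⟨fun e => el_cd_inj hh.xl hj (by norm_num) (e.trans this.symm), fun e => e ▸ this⟩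
  have h3 : allLt (fun j => force (ty j) fun t => Nat.beq (bor (Nat.beq t 0) (Nat.beq t 7)).toNat
    (bnot (bor (Nat.beq j 0) (RR false true true t))).toNat) 2048 = true := by decide +kernel
  have h4 := (allLt_iff _ _).1 h3 _ hj
  rw [e] at h1 h2
  rw [nz, fe, fe, Ne, h1, h2, ← Nat.beq_eq]
  rw [fe, Nat.beq_eq] at h4
  revert h4
  cases Nat.beq (ji c) 0 <;> cases RR false true true (ty (ji c)) <;>
    cases bor (Nat.beq (ty (ji c)) 0) (Nat.beq (ty (ji c)) 7) <;> simp [bnot, bor]

/-- the elements of `A` outside `Q` that are not conjugate to `z` -/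
theorem exists_conjQ [Finite G] (hh : Hat F h) {y : G} (hy : y ∈ A F) {k : ℕ} (hk : k < 16) (h0 : k ≠ 0)
    (l : F.Lift y (a2 k)) (hn : ¬ IsConj z y) : ∃ u, y = F.σ u * lk F h k * (F.σ u)⁻¹ := by
  obtain ⟨j, hj, rfl⟩ := (mem_A_cd hh.xl).1 hy
  have e := a2_inj hk (ok_cd hj).2 (l.unique (el_lift hh.xl (ok_cd hj).2))
  rw [(cd_spec j).2.2] at e
  obtain ⟨h4, e2⟩ := ty_big hh.1 hj (by omega)
  have h1 := cls_el hh.1 hj
  simp only [hh.2, hh.conj_z, (xor_cls hh.1).2.1, decide_true, decide_false] at h1
  have : ty j = 0 := by
    rw [h1] at hn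
    generalize ty j = t at hn h4
    interval_cases t
    exacts [rfl, absurd rfl hn, absurd rfl hn, absurd rfl hn, absurd rfl hn]
  rw [this, el_base0, ← e] at e2
  exact ⟨_, e2⟩

theorem exists_dd [Finite G] (hh : Hat F h) : ∃ α < 2, ∃ β < 2, ∀ k < 16, ∀ l < 16,
    lk F h k * lk F h l = lk F h (k ^^^ l) * zp z (dd α β k l) := by
  have h1 : ∀ k l, ∃ ε, k < 16 → l < 16 → lk F h k * lk F h l = lk F h (k ^^^ l) * zp z ε := fun k l => by
    by_cases hk : k < 16 ∧ l < 16
    · obtain ⟨ε, e⟩ := (hh.xl _ (xor_lt16 hk.1 hk.2)).eq ((hh.xl k hk.1).mul (hh.xl l hk.2))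
      exact ⟨ε, fun _ _ => e⟩
    · exact ⟨0, fun a b => absurd ⟨a, b⟩ hk⟩
  choose d hd using h1
  refine ⟨(d 1 2).val, ZMod.val_lt _, (d 1 4).val, ZMod.val_lt _, fun k hk l hl => ?_⟩
  rw [dd, sel_eq, sel_eq]
  by_cases c : k = 0 ∨ l = 0 ∨ k = l
  · rw [if_pos (by simpa [or_assoc] using c), Nat.cast_zero, zp_zero, mul_one]
    rcases c with rfl | rfl | rfl
    · rw [lk_zero, one_mul, Nat.zero_xor]
    · rw [lk_zero, mul_one, Nat.xor_zero]
    · rw [(hh.xl k hk).sq hk, Nat.xor_self, lk_zero]
  · rw [if_neg (by simpa [or_assoc] using c), hd k l hk hl, pair_inv (d := d) ?_ hk hl (by omega) (by omega) (by omega)]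
    · simp only [Nat.beq_eq]
      split_ifs <;> rw [ZMod.natCast_zmod_val]
    · intro g hg k hk l hl k' hk' l' hl' e1 e2
      obtain ⟨n, hn, hx⟩ := F.lift_K0 hg.1
      have e3 : g * a2 (k ^^^ l) * g⁻¹ = a2 (k' ^^^ l') := by rw [← a2_mul, ← a2_mul, ← e1, ← e2]; group
      have := hd k' l' hk' hl'
      rw [← hh.conj_lk hn hx hk hk' e1, ← hh.conj_lk hn hx hl hl' e2, conj_mul, hd k l hk hl, hn.conj_mul_zp,
        hh.conj_lk hn hx (xor_lt16 hk hl) (xor_lt16 hk' hl') e3] at this
      exact (zp_inj F.z1 (mul_left_cancel this)).symm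

end Hat

theorem el_mul {l : ℕ → G} (hl : ∀ k < 16, XL F (l k) k) {α β : ℕ}
    (hd : ∀ k < 16, ∀ m < 16, l k * l m = l (k ^^^ m) * zp z (dd α β k m)) {c d : ℕ} (hc : Ok c) (hd' : Ok d) :
    el F l (amul α β c d) = el F l c * el F l d := by
  rw [amul_eq, el_mk _ (xor_lt (mod_lt c) (mod_lt d)), el, el, mul_assoc (F.σ (vec (c % 4096))),
    mul_assoc (F.σ (vec (d % 4096))), elt_mul' hc.mem hd'.mem hc.2 ((hl _ hc.2).zp_mul _), vec_xor, mul_assoc,
    mul_assoc (zp z _), ← mul_assoc (l (c / 8192)), (hl _ hc.2).1.zp_comm, mul_assoc (zp z _), hd _ hc.2 _ hd'.2,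
    (hl _ (xor_lt16 hc.2 hd'.2)).1.zp_comm, ← mul_assoc (zp z _), F.zp_add', ← mul_assoc (zp z _), F.zp_add']
  simp only [Nat.cast_add, ZMod.natCast_mod, add_assoc]

theorem el_mem {l : ℕ → G} (hl : ∀ k < 16, XL F (l k) k) {c : ℕ} (hc : Ok c) : el F l c ∈ A F :=
  (mem_A3 hl).2 ⟨_, hc.mem, _, _, hc.2, rfl⟩

variable (F) in
/-- the valency of `y` in the graph on the elements of `A#` that are not conjugate to `z` -/
noncomputable def val (y : G) : ℕ :=
  {y' | y' ∈ A F ∧ ((y' ≠ 1 ∧ ¬ IsConj z y') ∧ (y * y' ≠ 1 ∧ ¬ IsConj z (y * y')))}.ncard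

theorem nc_conj (m y : G) : (m * y * m⁻¹ ≠ 1 ∧ ¬ IsConj z (m * y * m⁻¹)) ↔ (y ≠ 1 ∧ ¬ IsConj z y) := by
  rw [← isConj_iff_of (isConj_iff.2 ⟨m, rfl⟩)]; simp

theorem val_conj {m : G} (hm : m ∈ normalizer (A F : Set G)) (y : G) : val F (m * y * m⁻¹) = val F y := by
  rw [val, val]
  refine Eq.trans ?_ (Set.ncard_image_of_injective _ (MulAut.conj m).injective)
  congr 1
  ext u
  constructor
  · rintro ⟨h1, h2, h3⟩
    refine ⟨m⁻¹ * u * m, ⟨conj_mem_of_normalizer' hm h1, ?_, ?_⟩, by simp [mul_assoc]⟩
    · rw [← nc_conj m]; simpa [mul_assoc] using h2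
    · rw [← nc_conj m]; simpa [mul_assoc] using h3
  · rintro ⟨u, ⟨h1, h2, h3⟩, rfl⟩
    refine ⟨conj_mem_of_normalizer hm h1, (nc_conj m u).2 h2, ?_⟩
    rw [MulAut.conj_apply, conj_mul]; exact (nc_conj m _).2 h3

namespace Hat

theorem val_el [Finite G] (hh : Hat F h) {α β : ℕ}
    (hd : ∀ k < 16, ∀ l < 16, lk F h k * lk F h l = lk F h (k ^^^ l) * zp z (dd α β k l)) {c : ℕ} (hc : Ok c) :
    val F (el F (lk F h) c) = valC α β c :=
  ncard_A hh.xl fun j hj => by
    rw [fe, band_eq_true, ← el_mul hh.xl hd hc (ok_cd hj), hh.cls (ok_cd hj), hh.cls (hc.amul (ok_cd hj) _ _)]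

theorem lk_mul [Finite G] (hh : Hat F h) : ∀ k < 16, ∀ l < 16,
    lk F h k * lk F h l = lk F h (k ^^^ l) * zp z (dis k l) := by
  obtain ⟨α, hα, β, hβ, hd⟩ := hh.exists_dd
  have ok : ∀ c ∈ [3, 192, 4291], Ok c ∧ nz c = true := by
    have : ∀ c ∈ [3, 192, 4291], (inW (c % 4096) = true ∧ c / 8192 < 16) ∧ nz c = true := by decide +kernel
    exact this
  have h1 : ∃ m ∈ normalizer (A F : Set G), ∃ c ∈ [3, 192, 4291], m * el F (lk F h) c * m⁻¹ ∉ F.Q := by
    by_contra hn
    push Not at hn
    obtain ⟨m, hm, e⟩ := fusion' z_mem_A ((A F).mul_mem (hh.1.mem_A (by norm_num)) z_mem_A) hh.conj_z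
    have e1 : el F (lk F h) 3 * el F (lk F h) 192 * el F (lk F h) 4291 = z := by
      have := F.σ_triple (vec 3)
      rw [show F4.w • vec 3 = vec 192 by decide, show F4.v • vec 3 = vec 195 by decide] at this
      simp only [el, Nat.reduceMod, Nat.reduceDiv, lk_zero, mul_one, Nat.cast_zero, Nat.cast_one, zp_zero, zp_one]
      rw [← mul_assoc, this, one_mul]
    have : h * z ∈ F.Q := by
      have := mul_mem (mul_mem (hn m hm 3 (by simp)) (hn m hm 192 (by simp))) (hn m hm 4291 (by simp))
      rwa [conj_mul, conj_mul, e1, e] at this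
    have h2 := (hh.1.1.mul F.lift_z).unique (F.lift_one_of_mem this)
    rw [mul_one, ← a2_zero] at h2
    exact absurd (a2_inj (by norm_num) (by norm_num) h2) (by norm_num)
  obtain ⟨m, hm, c, hc, hQ⟩ := h1
  have hy := conj_mem_of_normalizer hm (el_mem hh.xl (ok c hc).1)
  obtain ⟨k, hk, l⟩ := A_lift hy
  have h0 : k ≠ 0 := fun e => hQ (by rw [e, a2_zero] at l; exact l.mem_Q)
  obtain ⟨u, e⟩ := hh.exists_conjQ hy hk h0 l ((nc_conj m _).2 ((hh.cls (ok c hc).1).2 (ok c hc).2)).2
  have h2 : val F (el F (lk F h) c) = val F (el F (lk F h) 8192) := by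
    rw [← val_conj hm, e, val_conj (σ_norm u), lk_ne h0, val_conj (nk_norm hk),
      show (8192 : ℕ) = base 0 1 by decide +kernel, el_base0, lk_ne one_ne_zero, val_conj (nk_norm (by norm_num))]
  rw [hh.val_el hd (ok c hc).1, hh.val_el hd ⟨by decide, by decide⟩] at h2
  obtain ⟨rfl, rfl⟩ := val_chk α hα β hβ c hc h2
  exact fun k hk l hl => dd_chk k hk l hl ▸ hd k hk l hl

end Hat

end H94.B1
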