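import Mathlib
import Cfsg.Agent.Lib.F24T.Iface
import Cfsg.Agent.Lib.Fi22I.Gen

/-!
# Facts about the model `K0 < H0` (helper71): perfectness, centre, the stabiliser of the vector `15`
-/

set_option autoImplicit false
set_option maxRecDepth 100000

namespace H71.F24

open H54 H94 H12.F24 H96.Lab
open H30 (F4)
open scoped Pointwise

/-- the array of a matrix (never trusted) -/
noncomputable def arrOf (M : ℕ) : ℕ :=
  Nat.rec (Nat.shiftLeft (Nat.shiftRight cfg.one 3402) 3402)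
    (fun i a => force a fun a => Nat.xor a (Nat.shiftLeft (si (lin M (sc i))) (Nat.mul 9 i))) 378

/-- `M` is the matrix of an element of the group of the chain -/
noncomputable def inM (ch : Chain) (M : ℕ) : Bool :=
  force M fun M => force (arrOf M) fun p => band (memb cfg ch p) (Nat.beq (matOf p) M)

theorem exists_of_inM {ch : Chain} {H : Subgroup AV} (a : Good cfg pt ch H) {M : ℕ}
    (h : inM ch M = true) : ∃ g ∈ H, Mat g M := by
  rw [inM, force_eq, force_eq] at h
  exact exists_of_memb' a h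

/-- power of a matrix -/
noncomputable def mpow (M n : ℕ) : ℕ := Nat.rec mone (fun _ a => mmul a M) n

theorem mat_pow {g : AV} {M : ℕ} (a : Mat g M) : ∀ n, Mat (g ^ n) (mpow M n)
  | 0 => by rw [pow_zero]; exact mat_one
  | n + 1 => by rw [pow_succ]; exact (mat_pow a n).mul a

theorem eq_one_of_fix {g : AV} {M N : ℕ} (e : Nat.beq (mmul M N) mone = true)
    (h : ∀ i < 12, g (vec (col M i)) = vec (col M i)) : g = 1 := by
  refine Mat.unique (M := mone) (fun x => ?_) mat_one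
  have h1 : vec (lin M (lin N x)) = vec x := by
    rw [← linH_vec, ← linH_vec, ← AddMonoidHom.comp_apply, ← linH_mmul, Nat.eq_of_beq_eq_true e, linH_mone]; rfl
  rw [vec_lin_mone, ← h1]
  exact fix_lin h (lin_lt _ _)

/-! ### sets of vectors -/

/-- the `m` vectors packed in `L` -/
def obj (m L : ℕ) : Set V6 := {v | ∃ j < m, vec (col L j) = v}

/-- the mask of the images of the `m` vectors packed in `L` -/
noncomputable def msk (f : ℕ → ℕ) (m L : ℕ) : ℕ :=
  force L fun L => Nat.rec 0 (fun j a => force a fun a => Nat.lor a (Nat.shiftLeft 1 (f (col L j)))) m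

theorem tb_msk (f : ℕ → ℕ) (L x : ℕ) : ∀ m, tb (msk f m L) x = true ↔ ∃ j < m, f (col L j) = x
  | 0 => by simp [msk, force_eq, tb_zero]
  | m + 1 => by
    have e : msk f (m + 1) L = Nat.lor (msk f m L) (Nat.shiftLeft 1 (f (col L m))) := by
      simp only [msk, force_eq]
    rw [e, tb_lor_shift, Bool.or_eq_true, decide_eq_true_eq, tb_msk f L x m]
    constructor
    · rintro (⟨j, hj, e⟩ | e)
      exacts [⟨j, by omega, e⟩, ⟨m, by omega, e⟩]
    · rintro ⟨j, hj, e'⟩
      rcases (by omega : j < m ∨ j = m) with h | rfl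
      exacts [Or.inl ⟨j, h, e'⟩, Or.inr e']

theorem smul_obj {g : AV} {M m L L' : ℕ} (a : Mat g M)
    (h : Nat.beq (msk (lin M) m L) (msk id m L') = true) : g • obj m L = obj m L' := by
  have e := Nat.eq_of_beq_eq_true h
  ext v
  constructor
  · rintro ⟨_, ⟨j, hj, rfl⟩, rfl⟩
    obtain ⟨k, hk, e'⟩ := (tb_msk id L' _ m).1 (e ▸ (tb_msk (lin M) L _ m).2 ⟨j, hj, rfl⟩)
    exact ⟨k, hk, (congrArg vec e').trans (a _).symm⟩
  · rintro ⟨k, hk, rfl⟩
    obtain ⟨j, hj, e'⟩ := (tb_msk (lin M) L _ m).1 (e ▸ (tb_msk id L' _ m).2 ⟨k, hk, rfl⟩)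
    exact ⟨_, ⟨j, hj, rfl⟩, (a _).trans (congrArg vec e')⟩

theorem msk_eq {m L L' : ℕ} (h : obj m L = obj m L') : msk id m L = msk id m L' := by
  have key : ∀ {L L' : ℕ}, obj m L = obj m L' → ∀ x, tb (msk id m L) x = true → tb (msk id m L') x = true := by
    intro L L' h x hx
    obtain ⟨j, hj, rfl⟩ := (tb_msk id L x m).1 hx
    obtain ⟨k, hk, e⟩ : vec (col L j) ∈ obj m L' := h ▸ ⟨j, hj, rfl⟩
    exact (tb_msk id L' _ m).2 ⟨k, hk, vec_inj (col_lt _ _) (col_lt _ _) e⟩
  refine Nat.eq_of_testBit_eq fun x => ?_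
  rw [← tb_eq, ← tb_eq]
  exact Bool.eq_iff_iff.2 ⟨key h x, key h.symm x⟩

/-- object number `i` of a table of objects of size `m` -/
def objT (m T i : ℕ) : Set V6 := obj m (Nat.shiftRight T (Nat.mul (Nat.mul 12 m) i))

noncomputable def ctxOk (n m T : ℕ) : Bool :=
  allLt (fun i => force (msk id m (Nat.shiftRight T (Nat.mul (Nat.mul 12 m) i))) fun a => allLt (fun j =>
    bimp (Nat.beq a (msk id m (Nat.shiftRight T (Nat.mul (Nat.mul 12 m) j)))) (Nat.beq i j)) n) n

theorem ctx_objT {c : Cfg} (hc : c.check = true) {m T : ℕ} (h : ctxOk c.n m T = true) : Ctx c (objT m T) := by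
  refine ⟨c.ok_of_check hc, fun i j hi hj e => ?_⟩
  simp only [ctxOk, allLt_iff, force_eq, bimp_eq_true, Nat.beq_eq] at h
  exact h i hi j hj (msk_eq e)

/-- `M` permutes the objects as the array `p` -/
noncomputable def repT (c : Cfg) (m T M p : ℕ) : Bool :=
  force M fun M => allLt (fun i => force (c.get p i) fun j => band (Nat.blt j c.n)
    (Nat.beq (msk (lin M) m (Nat.shiftRight T (Nat.mul (Nat.mul 12 m) i)))
      (msk id m (Nat.shiftRight T (Nat.mul (Nat.mul 12 m) j))))) c.n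

theorem rep_objT {c : Cfg} {m T M p : ℕ} {J : Subgroup AV} {g : J} (a : Mat g M) (h : repT c m T M p = true) :
    Rep c (objT m T) g p := by
  simp only [repT, allLt_iff, force_eq, band_eq_true, Nat.blt_eq] at h
  exact fun i hi => ⟨(h i hi).1, smul_obj a (h i hi).2⟩

theorem valid_objT {ch : Chain} {H : Subgroup AV} (a : Good cfg pt ch H) {c : Cfg} {m T x : ℕ} (hx : x < 4096)
    {Ms S : List ℕ} (h : all2 (fun M p => band (inM ch M) (band (Nat.beq (lin M x) x) (repT c m T M p))) Ms S = true) :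
    Valid ↥(H ⊓ MulAction.stabilizer AV (vec x)) c (objT m T) S := fun s hs => by
  obtain ⟨M, hM⟩ := all2_spec _ S Ms h s hs
  simp only [band_eq_true] at hM
  obtain ⟨g, hg, m⟩ := exists_of_inM a hM.1
  exact ⟨⟨g, hg, (m.apply_eq_iff x hx).2 (Nat.eq_of_beq_eq_true hM.2.1)⟩, rep_objT m hM.2.2⟩

/-! ### `K0` is perfect with centre `⟨ω⟩` -/

theorem eq_one_of_rels {A : Type*} [CommGroup A] {a b : A} (h1 : a ^ 6 = 1) (h2 : b ^ 9 = 1)
    (h3 : (a * b * b) ^ 7 = 1) (h4 : (a * a * a * b * b) ^ 5 = 1) : a = 1 ∧ b = 1 := by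
  have e : a = (a * b * b) ^ 7 * ((a * a * a * b * b) ^ 5) ^ 4 * ((a ^ 6) ^ 11)⁻¹ * ((b ^ 9) ^ 6)⁻¹ := by
    apply Additive.ofMul.injective
    simp only [ofMul_mul, ofMul_pow, ofMul_inv]
    abel
  have ha : a = 1 := by rw [e, h1, h2, h3, h4]; simp
  have e' : b = ((a * b * b) ^ 7) ^ 2 * ((b ^ 9) ^ 3)⁻¹ * (a ^ 14)⁻¹ := by
    apply Additive.ofMul.injective
    simp only [ofMul_mul, ofMul_pow, ofMul_inv]
    abel
  exact ⟨ha, by rw [e', h2, h3, ha]; simp⟩

theorem hom_K0 {A : Type*} [CommGroup A] (f : K0 →* A) (g : K0) : f g = 1 := by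
  have h := eq_one_of_rels (a := f ⟨kA, kA_mem⟩) (b := f ⟨kB, kB_mem⟩)
    (by rw [← map_pow, ← map_one f]; congr 1
        exact Subtype.ext ((mat_pow mat_kA 6).eq_of_beq mat_one (by decide +kernel)))
    (by rw [← map_pow, ← map_one f]; congr 1
        exact Subtype.ext ((mat_pow mat_kB 9).eq_of_beq mat_one (by decide +kernel)))
    (by simp only [← map_mul, ← map_pow]; rw [← map_one f]; congr 1
        exact Subtype.ext ((mat_pow ((mat_kA.mul mat_kB).mul mat_kB) 7).eq_of_beq mat_one (by decide +kernel)))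
    (by simp only [← map_mul, ← map_pow]; rw [← map_one f]; congr 1
        exact Subtype.ext ((mat_pow ((((mat_kA.mul mat_kA).mul mat_kA).mul mat_kB).mul mat_kB) 5).eq_of_beq
          mat_one (by decide +kernel)))
  obtain ⟨k, hk, e⟩ := K0_le (J := f.ker.map K0.subtype) ⟨_, h.1, rfl⟩ ⟨_, h.2, rfl⟩ g.2
  exact (Subtype.ext e : k = g) ▸ hk

theorem commutator_K0 : commutator K0 = ⊤ :=
  eq_top_iff.2 fun g _ => (QuotientGroup.eq_one_iff g).1 (hom_K0 Abelianization.of g)

theorem mem_zpowers_om {y : AV} (h : ∀ k ∈ K0, k * y = y * k) : y = 1 ∨ y = om ∨ y = om * om := by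
  have key : ∀ y : AV, (∀ k ∈ K0, k * y = y * k) → y (vec 3) = vec 3 → y = 1 := fun y h e => by
    have : y ∈ Kfix AV cfg pt := fun i hi => by
      obtain ⟨k, hk, e'⟩ := trans_S378 ⟨i, hi, rfl⟩
      rw [AV.smul_def, ← e', ← AV.mul_apply, ← h k hk, AV.mul_apply, e]
    rwa [Kbot] at this
  obtain ⟨g, hg, m⟩ := exists_of_inM goodK (M := 0x9100cb134d1428b24b4342c8d305202c12c2) (by decide +kernel)
  obtain ⟨x, hx, e⟩ := exists_vec (y (vec 3))
  have h1 : g (vec x) = vec x := by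
    rw [e, ← AV.mul_apply, h g hg, AV.mul_apply, (m.apply_eq_iff 3 (y := 3) (by norm_num)).2 (by decide +kernel)]
  have h2 := (allLt_iff _ _).1 (show allLt (fun x => bimp (Nat.beq (lin 0x9100cb134d1428b24b4342c8d305202c12c2 x) x)
    (anyL (Nat.beq x) [0, 3, 192, 195])) 4096 = true by decide +kernel) x hx
  simp only [bimp_eq_true, Nat.beq_eq, anyL_iff, List.mem_cons, List.not_mem_nil, or_false] at h2
  have hc : ∀ k ∈ K0, k * om = om * k := fun k hk => mem_linV.1 (K0_le_linV hk)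
  obtain ⟨_, rfl | rfl | rfl | rfl, rfl⟩ := h2 ((m.apply_eq_iff x hx).1 h1)
  · exact absurd (y.injective (e.symm.trans (vec_zero.trans (map_zero y).symm))) (by decide)
  · exact Or.inl (key y h e.symm)
  · refine Or.inr (Or.inl ?_)
    have := key (om * om * y) (fun k hk => by
      rw [← mul_assoc, ← mul_assoc, hc k hk, mul_assoc om, hc k hk, mul_assoc, mul_assoc, h k hk]
      simp only [mul_assoc])
      (by rw [AV.mul_apply, AV.mul_apply, ← e, om_apply, om_apply]; decide)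
    exact mul_left_cancel (this.trans om_cube.symm)
  · refine Or.inr (Or.inr ?_)
    have := key (om * y) (fun k hk => by rw [← mul_assoc, hc k hk, mul_assoc, h k hk, mul_assoc])
      (by rw [AV.mul_apply, ← e, om_apply]; decide)
    exact mul_left_cancel (this.trans (om_cube.symm.trans (mul_assoc _ _ _)))

theorem om_ne_one : om ≠ 1 := fun h => by
  have := om_apply (vec 1)
  rw [h] at this
  exact absurd this (by decide)

/-! ### the stabiliser of `15` -/

/-- the stabiliser `2⁴:A₆` -/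
abbrev P0 : Subgroup AV := K0 ⊓ MulAction.stabilizer AV (vec 15)

theorem card_P0_le : Nat.card P0 ≤ 360 * 16 := by
  have h := card_ge_of_subset K0 (vec 15)
    (S := vec '' {x | x < 4096 ∧ band (bnot (tb SM x)) (band (bnot (Nat.beq x 0)) (Nat.beq (qC x) 0)) = true}) (by
      rintro _ ⟨x, ⟨hx, h⟩, rfl⟩
      simp only [band_eq_true, H12.F24.bnot_eq_true, Nat.beq_eq] at h
      refine trans_S1701 (fun e => ?_) ((qv_vec_eq_zero x).2 h.2.2) fun e => ?_
      · rw [vec_inj hx (by norm_num) (e.trans vec_zero.symm)] at h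
        exact Bool.noConfusion h.2.1
      · rw [(mem_S378 hx).1 e] at h
        exact Bool.noConfusion h.1)
  have hc : cntLt (fun x => band (bnot (tb SM x)) (band (bnot (Nat.beq x 0)) (Nat.beq (qC x) 0))) 4096 = 1701 := by
    decide +kernel
  rw [Set.InjOn.ncard_image (fun x hx y hy e => vec_inj hx.1 hy.1 e), card_K0] at h
  rw [cntLt_eq, ← Set.ncard_coe_finset] at hc
  simp only [Finset.coe_filter, Finset.mem_range] at hc
  rw [hc] at h
  change 1701 * Nat.card P0 ≤ _ at h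
  omega

def cA1T : ℕ := 0xbc07c0f40f80dc0ec002f01f03d03e03703bbc07c0dc0ec0f40f8002f01f03703b03d03ebcf40f6f05f07b07703e03dfc2bc27c2ec2dbcf40f7b07706f05f03e03dfc2ec2dc2bc2780f7cfb70bb09f0af03ef3d0c1dc1ec17c1b80f7cf9f0af0b70bb03ef3d0c17c1bc1dc1e800400100200040080020010004008001002800400040080100200020010001002004008bc07c0ec0dc0f80f4002f01f03b03703e03dbc07c0f80f40ec0dc002f01f03e03d03b037bcf40f7707b05f06f03e03dfc2dc2ec27c2bbcf40f5f06f07707b03e03dfc27c2bc2dc2e80f7cfaf09f0bb0b703ef3d0c1bc17c1ec1d80f7cfbb0b70af09f03ef3d0c1ec1dc1bc17800400080040200100020010002001008004800400200100080040020010008004002001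
/-- matrix of the element number `k` of `O₂(P0)` -/
def cA1 (k : ℕ) : ℕ := Nat.land (Nat.shiftRight cA1T (Nat.mul 144 k)) (2 ^ 144 - 1)

/-- `O₂(P0) = 2⁴` -/
def A1 : Subgroup AV :=
  subFin {g | ∃ k < 16, Mat g (cA1 k)} ⟨0, by norm_num, (by decide +kernel : mone = cA1 0) ▸ mat_one⟩ (by
    rintro a b ⟨k, hk, m⟩ ⟨l, hl, n⟩
    have h := (allLt_iff _ _).1 ((allLt_iff _ _).1 (show allLt (fun k => allLt (fun l =>
      Nat.beq (mmul (cA1 k) (cA1 l)) (cA1 (Nat.xor k l))) 16) 16 = true by decide +kernel) k hk) l hl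
    refine ⟨Nat.xor k l, Nat.xor_lt_two_pow (n := 4) hk hl, ?_⟩
    rw [← Nat.eq_of_beq_eq_true h]
    exact m.mul n)

def T6 : ℕ := 0xc2fc20c1fc103fc3fa3f93f63f53f3fdcfdafd9fd6fd5fd3c2fc2003f030fecfeafe9fe6fe5fe3c1fc1003f030fecfe3fdcfd33fc3f300a009006005feafe5fdafd53fa3f500c009006003fe9fe6fd9fd63f93f600c00a005003

noncomputable def c6 : H54.Cfg := ⟨6, 6, 3, 7, 181896,
  37449,
  112347,
  149796,
  (.cons 64 73 9
    (.cons 65 513 3
    (.cons 66 4104 3
    (.cons 82 513 3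
    (.cons 83 73 9
    .nil)))))⟩
theorem c6_check : c6.check = true := by decide +kernel

noncomputable def ch6_4 : H54.Chain := .nil
noncomputable def ch6_t3 : H54.Tr :=
 (.node 0 (.leaf 0x4804080000000100000003)
 (.node 1 (.leaf 0x800020001000200000000)
 (.leaf 0x3000000000003)))
noncomputable def ch6_3 : H54.Chain := .cons 3 11 ch6_t3
  [180377]
  [] ch6_4
noncomputable def ch6_t2 : H54.Tr :=
 (.node 1 (.node 0 (.leaf 0x20000620000000200000003)
 (.leaf 0x84040080001000201000003))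
 (.node 3 (.leaf 0x4044080003000101000005)
 (.node 5 (.leaf 0x5000000000005)
 (.leaf 0x4804080006000000000000))))
noncomputable def ch6_2 : H54.Chain := .cons 5 43 ch6_t2
  [180377, 115368]
  [[6]] ch6_3
noncomputable def ch6_t1 : H54.Tr :=
 (.node 3 (.node 0 (.leaf 0x84844020000000300000001)
 (.node 1 (.leaf 0x24c04620001000200000005)
 (.leaf 0x4020003000101000004)))
 (.node 5 (.node 4 (.leaf 0x4000000000004)
 (.leaf 0x8400a0005000100000004))
 (.node 6 (.leaf 0x8400a0006000000000000)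
 (.leaf 0x4020007000000000000))))
noncomputable def ch6_1 : H54.Chain := .cons 4 59 ch6_t1
  [55427, 178305]
  [[6, 7, 6, 6, 3, 1], [7, 6, 6, 0, 0, 5]] ch6_2
noncomputable def ch6_t0 : H54.Tr :=
 (.node 3 (.node 1 (.node 0 (.leaf 0x220000000100000002)
 (.leaf 0x400200001000200000000))
 (.node 2 (.leaf 0x2000000000002)
 (.leaf 0x20044200003000101000002)))
 (.node 5 (.node 4 (.leaf 0xa4040000004000201000003)
 (.leaf 0x44480005000301000004))
 (.node 6 (.leaf 0x220006000000000000)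
 (.leaf 0x20044200007000000000000))))
noncomputable def ch6_0 : H54.Chain := .cons 2 63 ch6_t0
  [181777, 55504]
  [[4, 7, 4, 7, 1], [5, 6, 4, 6, 7, 0, 1, 7, 4]] ch6_1
noncomputable def ch6 : H54.Chain := ch6_0

theorem ch6_low0 : H54.checkLow c6 ch6_0 = true := by decide +kernel
theorem ch6_low : H54.checkLow c6 ch6 = true := ch6_low0
theorem ch6_up0 : H54.checkUp c6 ch6_0 = true := by decide +kernel
theorem ch6_up : H54.checkUp c6 ch6 = true := ch6_up0
theorem ch6_size : ch6.size c6.n = 360 := by decide +kernel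


theorem X6 : Ctx c6 (objT 10 T6) := ctx_objT c6_check (by decide +kernel)

theorem A1_chk : allLt (fun k => band (inM chK (cA1 k)) (band (Nat.beq (lin (cA1 k) 15) 15)
    (band (repT c6 10 T6 (cA1 k) c6.one) (Nat.beq (mmul (cA1 k) (cA1 k)) mone)))) 16 = true := by decide +kernel

theorem A1_spec {g : AV} (hg : g ∈ A1) : g ∈ P0 ∧ g * g = 1 := by
  obtain ⟨k, hk, m⟩ := hg
  have h := (allLt_iff _ _).1 A1_chk k hk
  simp only [band_eq_true] at h
  obtain ⟨g', hg', m'⟩ := exists_of_inM goodK h.1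
  exact ⟨⟨m'.unique m ▸ hg', (m.apply_eq_iff 15 (by norm_num)).2 (Nat.eq_of_beq_eq_true h.2.1)⟩,
    (m.mul m).eq_of_beq mat_one h.2.2.2⟩

theorem card_A1_ge : 16 ≤ Nat.card A1 := by
  have h : ∀ k : Fin 16, ∃ g : A1, Mat g (cA1 k) := fun k => by
    have h := (allLt_iff _ _).1 A1_chk k k.2
    simp only [band_eq_true] at h
    obtain ⟨g, -, m⟩ := exists_of_inM goodK h.1
    exact ⟨⟨g, k, k.2, m⟩, m⟩
  choose f hf using h
  have := Nat.card_le_card_of_injective f fun k l e => by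
    have h := (allLt_iff _ _).1 ((allLt_iff _ _).1 (show allLt (fun k => allLt (fun l =>
      bimp (Nat.beq (mnorm (cA1 k)) (mnorm (cA1 l))) (Nat.beq k l)) 16) 16 = true by decide +kernel) k k.2) l l.2
    simp only [bimp_eq_true, Nat.beq_eq] at h
    exact Fin.ext (h ((hf k).mnorm_eq (e ▸ hf l)))
  simpa using this

theorem exists_hom_A6 : Nat.card A1 = 16 ∧ ∃ ψ : P0 →* alternatingGroup (Fin 6), Function.Surjective ψ ∧
    ∀ g, ψ g = 1 ↔ (g : AV) ∈ A1 := by
  have hW := (card_grp_fin (n := 6) c6_check rfl (by decide +kernel) ch6_low ch6_up).trans ch6_size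
  have e := Nat.card_congr (Subgroup.subgroupOfEquivOfLe (H := A1) (K := P0) fun g hg => (A1_spec hg).1).toEquiv
  obtain ⟨ρ, h1, h2, h3, -⟩ := lab_hom (Γ := P0) (n := 6) (J := A1.subgroupOf P0) (k := 16) X6 rfl
    (valid_objT goodK (by norm_num) (Ms := [0xbcf40f7706f07b05f03e03dfc2dc2bc2ec27, 0x55f16f895a15eeafaa7cabea57757da91a94]) (by decide +kernel)) hW (by
      rintro g ⟨k, hk, m⟩
      have h := (allLt_iff _ _).1 A1_chk k hk
      simp only [band_eq_true] at h
      exact (rep_objT m h.2.2.1).mem_K_of_one X6) (e ▸ card_A1_ge) card_P0_le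
  have h4 : ρ.range = alternatingGroup (Fin 6) := by
    refine Equiv.Perm.eq_alternatingGroup_of_index_eq_two ?_
    have := ρ.range.card_mul_index
    rw [h1, hW, Nat.card_perm, Nat.card_eq_fintype_card, Fintype.card_fin, ← h1] at this
    change 360 * _ = 720 at this
    omega
  refine ⟨e ▸ h3, ρ.codRestrict _ fun g => h4 ▸ ⟨g, rfl⟩, fun ⟨s, hs⟩ => ?_, fun g => ?_⟩
  · obtain ⟨g, rfl⟩ : s ∈ ρ.range := h4 ▸ hs
    exact ⟨g, rfl⟩
  · rw [Subtype.ext_iff]
    exact (show g ∈ ρ.ker ↔ _ by rw [h2]; rfl)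

/-- the isotropic point spanned by `15` -/
def L15 (v : V6) : Prop := ∃ c : F4, v = c • vec 15
/-- its perpendicular space -/
def P15 (w : V6) : Prop := Bv w (vec 15) = 0 ∧ Bv w (vec 960) = 0

theorem L15_of {x : ℕ} (h : anyL (Nat.beq x) [0, 15, 960, 975] = true) : L15 (vec x) := by
  simp only [Nat.beq_eq, anyL_iff, List.mem_cons, List.not_mem_nil, or_false] at h
  obtain ⟨_, rfl | rfl | rfl | rfl, rfl⟩ := h
  exacts [⟨0, by decide⟩, ⟨1, by decide⟩, ⟨F4.w, by decide⟩, ⟨F4.v, by decide⟩]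

theorem A1_perp {g : AV} (hg : g ∈ A1) {w : V6} (hw : P15 w) : L15 (w + g w) := by
  obtain ⟨k, hk, m⟩ := hg
  obtain ⟨x, hx, rfl⟩ := exists_vec w
  have h := (allLt_iff _ _).1 (show allLt (fun x => bimp (Nat.beq (BC x 15) 0) (bimp (Nat.beq (BC x 960) 0)
    (allLt (fun k => force (Nat.xor x (lin (cA1 k) x)) fun y => anyL (Nat.beq y) [0, 15, 960, 975]) 16))) 4096 = true by
      decide +kernel) x hx
  simp only [bimp_eq_true, Nat.beq_eq, allLt_iff, force_eq] at h
  rw [m, ← vec_xor]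
  exact L15_of (h ((Bv_vec_eq_zero _ _).1 hw.1) ((Bv_vec_eq_zero _ _).1 hw.2) k hk)

theorem P15_basis : ∀ x ∈ [3, 5, 9, 16, 32, 192, 320, 576, 1024, 2048], P15 (vec x) := by
  unfold P15; decide

theorem A1_eq_one {g : AV} (hg : g ∈ A1) (h : ∀ w, P15 w → g w = w) : g = 1 := by
  obtain ⟨k, hk, m⟩ := hg
  have h1 := (allLt_iff _ _).1 (show allLt (fun k => bimp (allL (fun x => Nat.beq (lin (cA1 k) x) x)
    [3, 5, 9, 16, 32, 192, 320, 576, 1024, 2048]) (Nat.beq (cA1 k) mone)) 16 = true by decide +kernel) k hk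
  simp only [bimp_eq_true, allL_iff] at h1
  refine m.eq_of_beq mat_one (h1 fun x hx => Nat.beq_eq ▸ (m.apply_eq_iff x ?_).1 (h _ (P15_basis x hx)))
  revert x; decide

theorem L15_of_perp {u : V6} (h : ∀ w, P15 w → Bv u w = 0) : L15 u := by
  obtain ⟨x, hx, rfl⟩ := exists_vec u
  have h1 := (allLt_iff _ _).1 (show allLt (fun x => bimp (allL (fun w => Nat.beq (BC x w) 0)
    [3, 5, 9, 16, 32, 192, 320, 576, 1024, 2048]) (anyL (Nat.beq x) [0, 15, 960, 975])) 4096 = true by
      decide +kernel) x hx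
  simp only [bimp_eq_true, allL_iff] at h1
  exact L15_of (h1 fun w hw => Nat.beq_eq ▸ (Bv_vec_eq_zero _ _).1 (h _ (P15_basis w hw)))

theorem card_P15 : Nat.card {w : V6 // P15 w} = 1024 := by
  have hc : cntLt (fun x => band (Nat.beq (BC x 15) 0) (Nat.beq (BC x 960) 0)) 4096 = 1024 := by decide +kernel
  rw [cntLt_eq, ← Set.ncard_coe_finset] at hc
  simp only [Finset.coe_filter, Finset.mem_range, band_eq_true, Nat.beq_eq] at hc
  rw [← hc, ← Set.InjOn.ncard_image (f := vec) (fun x hx y hy e => vec_inj hx.1 hy.1 e)]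
  refine congrArg Set.ncard (Set.ext fun w => ⟨fun h => ?_, ?_⟩ : {w | P15 w} = _)
  · obtain ⟨x, hx, rfl⟩ := exists_vec w
    exact ⟨x, ⟨hx, (Bv_vec_eq_zero _ _).1 h.1, (Bv_vec_eq_zero _ _).1 h.2⟩, rfl⟩
  · rintro ⟨x, h, rfl⟩
    exact ⟨(Bv_vec_eq_zero _ _).2 h.2.1, (Bv_vec_eq_zero _ _).2 h.2.2⟩

/-- the vectors fixed by `P0` modulo `15` -/
theorem L15_of_fix {u : V6} (h : ∀ g ∈ P0, g u = u ∨ g u = u + vec 15) : L15 u := by
  obtain ⟨x, hx, rfl⟩ := exists_vec u
  have h1 := (allLt_iff _ _).1 (show allLt (fun x => bimp (allL (fun M => force (lin M x) fun y =>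
    bor (Nat.beq y x) (Nat.beq y (Nat.xor x 15))) [0xbcf40f7706f07b05f03e03dfc2dc2bc2ec27, 0x55f16f895a15eeafaa7cabea57757da91a94]) (anyL (Nat.beq x) [0, 15, 960, 975])) 4096 = true by
      decide +kernel) x hx
  have h2 := (allL_iff _ _).1 (show allL (fun M => band (inM chK M) (Nat.beq (lin M 15) 15)) [0xbcf40f7706f07b05f03e03dfc2dc2bc2ec27, 0x55f16f895a15eeafaa7cabea57757da91a94] = true by
    decide +kernel)
  simp only [bimp_eq_true, allL_iff, force_eq, bor_eq_true, Nat.beq_eq, band_eq_true] at h1 h2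
  refine L15_of (h1 fun M hM => ?_)
  obtain ⟨g, hg, m⟩ := exists_of_inM goodK (h2 M hM).1
  refine (h g ⟨hg, (m.apply_eq_iff 15 (by norm_num)).2 (h2 M hM).2⟩).imp (m.apply_eq_iff x hx).1 fun e => ?_
  rw [← vec_xor] at e
  exact (m.apply_eq_iff x (Nat.xor_lt_two_pow (n := 12) hx (by norm_num))).1 e

/-- no element of `N1` acts trivially on `15^⊥ / 15` -/
theorem eq_one_of_hyp {g : AV} (hg : g ∈ N1) (h : ∀ w, Bv w (vec 15) = 0 → g w = w ∨ g w = w + vec 15) : g = 1 := by
  have h1 : ∀ x ∈ [17, 18, 20, 24, 33, 192, 193, 320, 576, 1025, 2049], g (vec x) = vec x := fun x hx => by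
    have h2 := (allL_iff _ _).1 (show allL (fun x => band (Nat.blt x 4096) (band (Nat.beq (BC x 15) 0) (band (tb SM x)
      (bnot (tb SM (Nat.xor x 15)))))) [17, 18, 20, 24, 33, 192, 193, 320, 576, 1025, 2049] = true by decide +kernel) x hx
    simp only [band_eq_true, Nat.blt_eq, Nat.beq_eq, H12.F24.bnot_eq_true] at h2
    refine (h _ ((Bv_vec_eq_zero _ _).2 h2.2.1)).resolve_right fun e => ?_
    have h3 := (N1_S378 hg).2 ((mem_S378 h2.1).2 h2.2.2.1)
    rw [e, ← vec_xor] at h3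
    exact Bool.noConfusion (h2.2.2.2.symm.trans
      ((mem_S378 (Nat.xor_lt_two_pow (n := 12) h2.1 (by norm_num))).1 h3))
  have h3 : g (vec 3) = vec 3 := by
    rw [(by decide : vec 3 = vec 17 + vec 18), map_add, h1 17 (by simp), h1 18 (by simp)]
  have hl : g ∈ linV := mem_linV.2 (hg.1.resolve_right fun hs => by
    have := semi_smul hs F4.w (vec 3)
    rw [h3, (by decide : F4.w • vec 3 = vec 192), h1 192 (by simp)] at this
    exact absurd this (by decide))
  refine eq_one_of_fix (M := 0x4408014012401400c10c0021018014012011) (N := 0x460260b60ae0a40a60070061069065063060) (by decide +kernel) fun i hi => ?_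
  rcases (by omega : i < 11 ∨ i = 11) with hi | rfl
  · exact h1 _ (by revert i; decide +kernel)
  · rw [(by decide +kernel : col 0x4408014012401400c10c0021018014012011 11 = 1088), (by decide : vec 1088 = F4.w • vec 17), linV_smul hl,
      h1 17 (by simp)]

end H71.F24
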